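/-
The quaternion shape of the 2-residual part: generators and signs.

Blueprint: `blueprint/S3272.md`, part P4.
-/
import Cfsg.Agent.Lib.NoEightConstrained.Focal

set_option autoImplicit false
set_option linter.style.haveILetI false

namespace CfsgLib.NoEightConstrained

open Subgroup

variable {G : Type*} [Group G] [Finite G]

/-- Two generators of a group of order eight with one involution and exponent four. -/
theorem q8_gens {X : Subgroup G} {z : G} (h8 : Nat.card ↥X = 8) (hz : z ∈ X) (hzz : z * z = 1) (hz1 : z ≠ 1)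
    (hzc : ∀ x ∈ X, x * z = z * x) (h2 : ∀ x ∈ X, x * x = 1 → x = 1 ∨ x = z) (h4 : ∀ x ∈ X, x ^ 4 = 1)
    {q j : G} (hq : q ∈ X) (hj : j ∈ X) (hq1 : q ≠ 1) (hqz : q ≠ z) (hj1 : j ≠ 1) (hjz : j ≠ z) (hjq : j ≠ q)
    (hjqz : j ≠ q * z) :
    q * q = z ∧ j * j = z ∧ j * q * j⁻¹ = q * z ∧
      ∀ x ∈ X, x = 1 ∨ x = z ∨ x = q ∨ x = q * z ∨ x = j ∨ x = j * z ∨ x = q * j ∨ x = q * j * z := by
  have sq : ∀ x ∈ X, x ≠ 1 → x ≠ z → x * x = z := by
    intro x hx hx1 hxz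
    refine (h2 _ (mul_mem hx hx) ?_).resolve_left fun e => ?_
    · rw [← h4 x hx, pow_succ, pow_succ, pow_two, mul_assoc (x * x)]
    · rcases h2 x hx e with h | h
      exacts [hx1 h, hxz h]
  have hqq := sq q hq hq1 hqz
  have hjj := sq j hj hj1 hjz
  have hqi : q⁻¹ = q * z := inv_eq_of_mul_eq_one_right (by rw [← mul_assoc, hqq, hzz])
  have hp := sq (q * j) (mul_mem hq hj) (fun e => hjqz (by rw [eq_inv_of_mul_eq_one_right e, hqi]))
    (fun e => hjq (by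
      rw [show j = q⁻¹ * z by rw [← e, inv_mul_cancel_left], hqi, mul_assoc, hzz, mul_one]))
  have hjqj : j * q * j = q := by
    calc j * q * j = q⁻¹ * (q * j * (q * j)) := by group
      _ = q := by rw [hp, hqi, mul_assoc, hzz, mul_one]
  have hji : j⁻¹ = j * z := inv_eq_of_mul_eq_one_right (by rw [← mul_assoc, hjj, hzz])
  refine ⟨hqq, hjj, by rw [hji, ← mul_assoc, hjqj], fun x hx => ?_⟩
  have hle : zpowers q ≤ X := zpowers_le.2 hq
  have hord : orderOf q = 4 := by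
    haveI : Fact (Nat.Prime 2) := ⟨Nat.prime_two⟩
    refine orderOf_eq_prime_pow (p := 2) (n := 1) ?_ (h4 q hq)
    rw [pow_one, pow_two, hqq]
    exact hz1
  have hmem : ∀ y ∈ zpowers q, y = 1 ∨ y = z ∨ y = q ∨ y = q * z := by
    intro y hy
    classical
    rw [mem_zpowers_iff_mem_range_orderOf, hord] at hy
    simp only [Finset.mem_image, Finset.mem_range] at hy
    obtain ⟨k, hk, rfl⟩ := hy
    interval_cases k
    · exact Or.inl (pow_zero q)
    · exact Or.inr (Or.inr (Or.inl (pow_one q)))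
    · exact Or.inr (Or.inl (by rw [pow_two, hqq]))
    · exact Or.inr (Or.inr (Or.inr (by rw [pow_succ', pow_two, hqq])))
  have hi : ((zpowers q).subgroupOf X).index = 2 := by
    have h := ((zpowers q).subgroupOf X).card_mul_index
    rw [Nat.card_congr (subgroupOfEquivOfLe hle).toEquiv, Nat.card_zpowers, hord, h8] at h
    omega
  by_cases hxA : x ∈ zpowers q
  · rcases hmem x hxA with h | h | h | h
    · exact Or.inl h
    · exact Or.inr (Or.inl h)
    · exact Or.inr (Or.inr (Or.inl h))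
    · exact Or.inr (Or.inr (Or.inr (Or.inl h)))
  have hjA : j ∉ zpowers q := fun h => by
    rcases hmem j h with e | e | e | e
    exacts [hj1 e, hjz e, hjq e, hjqz e]
  have hxj : x * j⁻¹ ∈ zpowers q := by
    have := (mul_mem_iff_of_index_two hi (a := ⟨x, hx⟩) (b := (⟨j, hj⟩ : ↥X)⁻¹)).2
      (iff_of_false hxA fun h => hjA (by simpa [mem_subgroupOf] using inv_mem h))
    exact this
  rcases hmem _ hxj with h | h | h | h <;> rw [mul_inv_eq_iff_eq_mul] at h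
  · exact Or.inr (Or.inr (Or.inr (Or.inr (Or.inl (by rw [h, one_mul])))))
  · exact Or.inr (Or.inr (Or.inr (Or.inr (Or.inr (Or.inl (by rw [h, hzc j hj]))))))
  · exact Or.inr (Or.inr (Or.inr (Or.inr (Or.inr (Or.inr (Or.inl h))))))
  · exact Or.inr (Or.inr (Or.inr (Or.inr (Or.inr (Or.inr (Or.inr (by
      rw [h, mul_assoc, ← hzc j hj, ← mul_assoc])))))))

namespace Ctx2

variable (c : Ctx2 G)

/-- No normal four-group of the Sylow subgroup centralises the 2-residual part. -/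
theorem no_four {X V : Subgroup G} (hR : c.R ≤ X) (hVS : V ≤ (c.S : Subgroup G))
    (hVX : ∀ v ∈ V, ∀ x ∈ X, v * x = x * v) (hVn : ∀ s ∈ (c.S : Subgroup G), ∀ v ∈ V, s * v * s⁻¹ ∈ V)
    (hV4 : Nat.card ↥V = 4) (hV2 : ∀ v ∈ V, v * v = 1) : False := by
  classical
  haveI := Fact.mk Nat.prime_two
  -- a central involution of the four
  set S : Subgroup G := (c.S : Subgroup G) with hS
  haveI : (V.subgroupOf S).Normal := ⟨fun v hv s => hVn _ s.2 _ hv⟩
  haveI : Group.IsNilpotent ↥S := c.S.2.isNilpotent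
  have hne : V.subgroupOf S ≠ ⊥ := fun e => by
    have h := Nat.card_congr (subgroupOfEquivOfLe hVS).toEquiv
    rw [e, hV4, card_bot] at h
    omega
  obtain ⟨v, hv, hv1⟩ :=
    (nontrivial_iff_exists_ne_one _).1 ((nontrivial_iff_ne_bot _).2 (CfsgLib.inf_center_ne_bot_of_nilpotent hne))
  have hvz : (v : G) = c.z := c.central_involution v.2 (hV2 _ hv.1) (fun e => hv1 (Subtype.ext e))
    fun s hs => congrArg Subtype.val (mem_center_iff.1 hv.2 ⟨s, hs⟩)
  have hzV : c.z ∈ V := hvz ▸ hv.1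
  -- a non-central member
  obtain ⟨w, hwV, hw1, hwz⟩ : ∃ w ∈ V, w ≠ 1 ∧ w ≠ c.z := by
    by_contra hall
    push Not at hall
    haveI := Fintype.ofFinite ↥V
    have : (Finset.univ : Finset ↥V) ⊆ {1, ⟨c.z, hzV⟩} := fun a _ => by
      by_cases ha : (a : G) = 1
      · simp [Subtype.ext_iff, ha]
      · simp [Subtype.ext_iff, hall a a.2 ha]
    have := (Finset.card_le_card this).trans Finset.card_le_two
    rw [Finset.card_univ, ← Nat.card_eq_fintype_card, hV4] at this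
    omega
  by_cases hwc : ∀ s ∈ S, s * w = w * s
  · exact hwz (c.central_involution (hVS hwV) (hV2 _ hwV) hw1 hwc)
  push Not at hwc
  let c' : Ctx2 G :=
    { S := c.S, U := V, simple := c.simple, hna := c.hna, noEight := c.noEight, rank3 := c.rank3,
      conn := c.conn, cons := c.cons, U_le := hVS, U_normal := hVn, U_card := hV4, U_sq := hV2,
      z := c.z, u := w, z_mem := hzV, u_mem := hwV, z_ne := c.z_ne, u_ne := hw1, u_ne_z := hwz,
      z_central := c.z_central, outer := hwc }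
  have hRR : c'.R = c.R := rfl
  refine c'.not_R_le_T fun x hx => c'.mem_T_iff.2 ⟨hx.1, ?_⟩
  exact (hVX w hwV x (hR (hRR ▸ hx))).symm

end Ctx2

/-- The quaternion shape. -/
structure Quat (c : Ctx2 G) where
  X : Subgroup G
  X_le : X ≤ (c.S : Subgroup G)
  X_normal : ∀ s ∈ (c.S : Subgroup G), ∀ x ∈ X, s * x * s⁻¹ ∈ X
  X_card : Nat.card ↥X = 8
  z_memX : c.z ∈ X
  X_sq : ∀ x ∈ X, x * x = 1 → x = 1 ∨ x = c.z
  R_le : c.R ≤ X
  q : G
  j : G
  l : G
  q_mem : q ∈ X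
  j_mem : j ∈ X
  qq : q * q = c.z
  jj : j * j = c.z
  jq : j * q * j⁻¹ = q * c.z
  X_cases : ∀ x ∈ X, x = 1 ∨ x = c.z ∨ x = q ∨ x = q * c.z ∨ x = j ∨ x = j * c.z ∨ x = q * j ∨ x = q * j * c.z
  l_memS : l ∈ (c.S : Subgroup G)
  l_comm : ∀ x ∈ X, l * x = x * l
  ll : l * l = c.z
  u_eq : c.u = q * l

/-- The quaternion shape occurs under the hypotheses of part P4. -/
theorem Ctx2.exists_quat (c : Ctx2 G) (X : Subgroup G) (hXS : X ≤ (c.S : Subgroup G))
    (hXn : ∀ s ∈ (c.S : Subgroup G), ∀ x ∈ X, s * x * s⁻¹ ∈ X) (hX8 : Nat.card ↥X = 8) (hXz : c.z ∈ X)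
    (hX2 : ∀ x ∈ X, x * x = 1 → x = 1 ∨ x = c.z) (hX4 : ∀ x ∈ X, x ^ 4 = 1) (hR : c.R ≤ X) :
    Nonempty (Quat c) := by
  classical
  obtain ⟨x₀, hx₀, hx₀T⟩ := SetLike.not_le_iff_exists.1 fun h => c.not_R_le_T (hR.trans h)
  have hzX : ∀ x ∈ X, x * c.z = c.z * x := fun x hx => c.z_central x (hXS hx)
  have gens := fun {q j : G} => q8_gens (q := q) (j := j) hX8 hXz c.zz c.z_ne hzX hX2 hX4
  -- `u` acts as an inner automorphism
  have hu : ∀ x ∈ X, c.u * x * c.u⁻¹ = x ∨ c.u * x * c.u⁻¹ = x * c.z := by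
    intro x hx
    have hU : c.u * x * c.u⁻¹ * x⁻¹ ∈ c.U := by
      rw [show c.u * x * c.u⁻¹ * x⁻¹ = c.u * (x * c.u⁻¹ * x⁻¹) by group]
      exact mul_mem c.u_mem (c.U_normal x (hXS hx) _ (inv_mem c.u_mem))
    have hX : c.u * x * c.u⁻¹ * x⁻¹ ∈ X := mul_mem (hXn _ c.uS x hx) (inv_mem hx)
    rcases hX2 _ hX (c.U_sq _ hU) with e | e
    · exact Or.inl (mul_inv_eq_one.1 e)
    · refine Or.inr ?_
      rw [mul_inv_eq_iff_eq_mul.1 e, hzX x hx]
  -- generators
  obtain ⟨i, hi, hi1, hiz⟩ : ∃ i ∈ X, i ≠ 1 ∧ i ≠ c.z := by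
    refine ⟨x₀, hx₀, fun e => hx₀T (e ▸ one_mem _), fun e => hx₀T (e ▸ c.U_le_T c.z_mem)⟩
  obtain ⟨k, hk, hk1, hkz, hki, hkiz⟩ : ∃ k ∈ X, k ≠ 1 ∧ k ≠ c.z ∧ k ≠ i ∧ k ≠ i * c.z := by
    by_contra hall
    push Not at hall
    haveI := Fintype.ofFinite ↥X
    have : (Finset.univ : Finset ↥X) ⊆
        {1, ⟨c.z, hXz⟩, ⟨i, hi⟩, ⟨i * c.z, mul_mem hi hXz⟩} := fun a _ => by
      by_cases h1 : (a : G) = 1
      · simp [Subtype.ext_iff, h1]
      by_cases h2 : (a : G) = c.z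
      · simp [Subtype.ext_iff, h2]
      by_cases h3 : (a : G) = i
      · simp [Subtype.ext_iff, h3]
      simp [Subtype.ext_iff, hall a a.2 h1 h2 h3]
    have h4 := (Finset.card_le_card this).trans Finset.card_le_four
    rw [Finset.card_univ, ← Nat.card_eq_fintype_card, hX8] at h4
    omega
  obtain ⟨hii, hkk, hkik, hcases⟩ := gens hi hk hi1 hiz hk1 hkz hki hkiz
  have hik : i * k * i⁻¹ = k * c.z := by
    have e : k * i = i * c.z * k := mul_inv_eq_iff_eq_mul.1 hkik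
    rw [mul_inv_eq_iff_eq_mul, mul_assoc k, ← hzX i hi, ← mul_assoc k, e, mul_assoc (i * c.z), hzX k hk,
      mul_assoc i, ← mul_assoc c.z, c.zz, one_mul]
  -- the element of `X` acting like `u`
  obtain ⟨q, hq, hqi, hqk⟩ : ∃ q ∈ X, c.u * i * c.u⁻¹ = q * i * q⁻¹ ∧ c.u * k * c.u⁻¹ = q * k * q⁻¹ := by
    rcases hu i hi with e1 | e1 <;> rcases hu k hk with e2 | e2
    · exact ⟨1, one_mem _, by rw [e1]; group, by rw [e2]; group⟩
    · exact ⟨i, hi, by rw [e1, mul_inv_cancel_right], by rw [e2, hik]⟩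
    · exact ⟨k, hk, by rw [e1, hkik], by rw [e2, mul_inv_cancel_right]⟩
    · refine ⟨i * k, mul_mem hi hk, ?_, ?_⟩
      · rw [e1, show i * k * i * (i * k)⁻¹ = i * (k * i * k⁻¹) * i⁻¹ by group, hkik,
          show i * (i * c.z) * i⁻¹ = i * (i * c.z * i⁻¹) by group, hzX i hi, mul_inv_cancel_right, ← hzX i hi]
      · rw [e2, show i * k * k * (i * k)⁻¹ = i * k * i⁻¹ by group, hik]
  have hconj : ∀ x ∈ X, c.u * x * c.u⁻¹ = q * x * q⁻¹ := by
    set A : Subgroup G :=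
      ((MulAut.conj c.u).toMonoidHom.eqLocus (MulAut.conj q).toMonoidHom) with hA
    have hA' : ∀ x, x ∈ A ↔ c.u * x * c.u⁻¹ = q * x * q⁻¹ := fun x => Iff.rfl
    have hzA : c.z ∈ A := (hA' _).2 (by
      rw [c.uz_comm, mul_inv_cancel_right, c.z_central q (hXS hq), mul_inv_cancel_right])
    have hiA : i ∈ A := (hA' _).2 hqi
    have hkA : k ∈ A := (hA' _).2 hqk
    intro x hx
    rw [← hA']
    rcases hcases x hx with h | h | h | h | h | h | h | h <;> rw [h]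
    exacts [one_mem _, hzA, hiA, mul_mem hiA hzA, hkA, mul_mem hkA hzA, mul_mem hiA hkA,
      mul_mem (mul_mem hiA hkA) hzA]
  -- it is not central
  have hq' : ∀ x ∈ X, q * x = x * q → x * c.u = c.u * x := by
    intro x hx h
    have e := hconj x hx
    rw [h, mul_inv_cancel_right, mul_inv_eq_iff_eq_mul] at e
    exact e.symm
  have hq1 : q ≠ 1 := fun e => hx₀T (c.mem_T_iff.2 ⟨hXS hx₀, hq' x₀ hx₀ (by rw [e]; group)⟩)
  have hqz : q ≠ c.z := fun e => hx₀T (c.mem_T_iff.2 ⟨hXS hx₀, hq' x₀ hx₀ (by rw [e, hzX x₀ hx₀])⟩)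
  obtain ⟨j, hj, hj1, hjz, hjq, hjqz⟩ : ∃ j ∈ X, j ≠ 1 ∧ j ≠ c.z ∧ j ≠ q ∧ j ≠ q * c.z := by
    by_cases h : i ≠ q ∧ i ≠ q * c.z
    · exact ⟨i, hi, hi1, hiz, h.1, h.2⟩
    refine ⟨k, hk, hk1, hkz, ?_⟩
    by_cases h' : i = q
    · exact h' ▸ ⟨hki, hkiz⟩
    have hiq : i = q * c.z := by
      by_contra h''
      exact h ⟨h', h''⟩
    have hqi' : q = i * c.z := by rw [hiq, mul_assoc, c.zz, mul_one]
    exact ⟨hqi' ▸ hkiz, hiq ▸ hki⟩
  obtain ⟨hqq, hjj, hjqj, hcases'⟩ := gens hq hj hq1 hqz hj1 hjz hjq hjqz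
  have hqu : c.u * q = q * c.u := by
    have e := hconj q hq
    rwa [mul_inv_cancel_right, mul_inv_eq_iff_eq_mul] at e
  refine ⟨⟨X, hXS, hXn, hX8, hXz, hX2, hR, q, j, q⁻¹ * c.u, hq, hj, hqq, hjj, hjqj, hcases', ?_, ?_, ?_, ?_⟩⟩
  · exact mul_mem (inv_mem (hXS hq)) c.uS
  · intro x hx
    have e := mul_inv_eq_iff_eq_mul.1 (hconj x hx)
    rw [mul_assoc, e]
    group
  · have hc' : c.u * q⁻¹ = q⁻¹ * c.u := (Commute.inv_right (show Commute c.u q from hqu)).eq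
    rw [show q⁻¹ * c.u * (q⁻¹ * c.u) = q⁻¹ * (c.u * q⁻¹) * c.u by group, hc',
      show q⁻¹ * (q⁻¹ * c.u) * c.u = (q * q)⁻¹ * (c.u * c.u) by group, hqq, c.uu, mul_one, eq_inv_of_sq c.zz]
  · group

namespace Quat

variable {c : Ctx2 G} (d : Quat c)

theorem zc {s : G} (hs : s ∈ (c.S : Subgroup G)) : s * c.z = c.z * s := c.z_central s hs

theorem conj_z {s : G} (hs : s ∈ (c.S : Subgroup G)) (a : G) : s * (a * c.z) * s⁻¹ = s * a * s⁻¹ * c.z := by
  have h : s⁻¹ * c.z = c.z * s⁻¹ := c.z_central _ (Subgroup.inv_mem _ hs)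
  rw [mul_assoc s, mul_assoc a, ← h]
  group

theorem zz_cancel (a : G) : a * c.z * c.z = a := by rw [mul_assoc, c.zz, mul_one]

theorem qS : d.q ∈ (c.S : Subgroup G) := d.X_le d.q_mem

theorem jS : d.j ∈ (c.S : Subgroup G) := d.X_le d.j_mem

theorem ql : d.q * d.l = d.l * d.q := (d.l_comm _ d.q_mem).symm

theorem qj : d.q * d.j * d.q⁻¹ = d.j * c.z := by
  have h := mul_inv_eq_iff_eq_mul.1 d.jq
  rw [mul_inv_eq_iff_eq_mul]
  calc d.q * d.j = d.q * (c.z * c.z) * d.j := by rw [c.zz, mul_one]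
    _ = d.q * c.z * d.j * c.z := by rw [mul_assoc (d.q * c.z) d.j, zc d.jS]; group
    _ = d.j * d.q * c.z := by rw [h]
    _ = d.j * c.z * d.q := by rw [mul_assoc, zc d.qS, ← mul_assoc]

theorem q_ne_one : d.q ≠ 1 := fun e => c.z_ne (by rw [← d.qq, e, one_mul])

theorem q_ne_z : d.q ≠ c.z := fun e => c.z_ne (by rw [← d.qq, e, c.zz])

theorem ne_mul_z {a : G} : a * c.z ≠ a := fun e => c.z_ne (mul_eq_left.1 e)

theorem q_ne_qz : d.q ≠ d.q * c.z := (ne_mul_z).symm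

theorem l_ne_lz : d.l ≠ d.l * c.z := (ne_mul_z).symm

/-- The centraliser of `X` in the Sylow subgroup. -/
def L : Subgroup G := (c.S : Subgroup G) ⊓ centralizer (d.X : Set G)

theorem L_le : d.L ≤ (c.S : Subgroup G) := inf_le_left

theorem mem_L {m : G} : m ∈ d.L ↔ m ∈ (c.S : Subgroup G) ∧ ∀ x ∈ d.X, m * x = x * m :=
  ⟨fun h => ⟨h.1, fun x hx => (mem_centralizer_iff.1 h.2 x hx).symm⟩,
    fun h => ⟨h.1, mem_centralizer_iff.2 fun x hx => (h.2 x hx).symm⟩⟩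

theorem l_memL : d.l ∈ d.L := d.mem_L.2 ⟨d.l_memS, d.l_comm⟩

theorem z_memL : c.z ∈ d.L := d.mem_L.2 ⟨c.zS, fun _ hx => (zc (d.X_le hx)).symm⟩

theorem L_comm {m x : G} (hm : m ∈ d.L) (hx : x ∈ d.X) : m * x = x * m := (d.mem_L.1 hm).2 x hx

theorem L_fix {m x : G} (hm : m ∈ d.L) (hx : x ∈ d.X) : m * x * m⁻¹ = x := by
  rw [d.L_comm hm hx, mul_inv_cancel_right]

theorem X_fix {m x : G} (hm : m ∈ d.L) (hx : x ∈ d.X) : x * m * x⁻¹ = m := by
  rw [← d.L_comm hm hx, mul_inv_cancel_right]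

theorem L_normal {s m : G} (hs : s ∈ (c.S : Subgroup G)) (hm : m ∈ d.L) : s * m * s⁻¹ ∈ d.L := by
  refine d.mem_L.2 ⟨mul_mem (mul_mem hs (d.L_le hm)) (inv_mem hs), fun x hx => ?_⟩
  have hy : s⁻¹ * x * s ∈ d.X := by simpa using d.X_normal _ (inv_mem hs) x hx
  calc s * m * s⁻¹ * x = s * (m * (s⁻¹ * x * s)) * s⁻¹ := by group
    _ = x * (s * m * s⁻¹) := by rw [d.L_comm hm hy]; group

theorem XL {x : G} (hx : x ∈ d.X) (hxL : x ∈ d.L) : x = 1 ∨ x = c.z := by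
  have h1 : x * d.q * x⁻¹ = d.q := d.L_fix hxL d.q_mem
  have h2 : x * d.j * x⁻¹ = d.j := d.L_fix hxL d.j_mem
  rcases d.X_cases x hx with h | h | h | h | h | h | h | h
  · exact Or.inl h
  · exact Or.inr h
  · rw [h, d.qj] at h2
    exact absurd h2 ne_mul_z
  · rw [h, show d.q * c.z * d.j * (d.q * c.z)⁻¹ = d.q * (c.z * d.j * c.z⁻¹) * d.q⁻¹ by group, ← zc d.jS,
      mul_inv_cancel_right, d.qj] at h2
    exact absurd h2 ne_mul_z
  · rw [h, d.jq] at h1
    exact absurd h1 ne_mul_z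
  · rw [h, show d.j * c.z * d.q * (d.j * c.z)⁻¹ = d.j * (c.z * d.q * c.z⁻¹) * d.j⁻¹ by group, ← zc d.qS,
      mul_inv_cancel_right, d.jq] at h1
    exact absurd h1 ne_mul_z
  · rw [h, show d.q * d.j * d.q * (d.q * d.j)⁻¹ = d.q * (d.j * d.q * d.j⁻¹) * d.q⁻¹ by group, d.jq,
      conj_z d.qS, mul_inv_cancel_right] at h1
    exact absurd h1 ne_mul_z
  · rw [h, show d.q * d.j * c.z * d.q * (d.q * d.j * c.z)⁻¹ =
        d.q * (d.j * (c.z * d.q * c.z⁻¹) * d.j⁻¹) * d.q⁻¹ by group, ← zc d.qS, mul_inv_cancel_right, d.jq,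
      conj_z d.qS, mul_inv_cancel_right] at h1
    exact absurd h1 ne_mul_z

theorem l_notin_X : d.l ∉ d.X := fun h => by
  rcases d.XL h d.l_memL with e | e
  · exact c.z_ne (by rw [← d.ll, e, one_mul])
  · exact c.z_ne (by rw [← d.ll, e, c.zz])

theorem q_notin_L : d.q ∉ d.L := fun h => (d.XL d.q_mem h).elim d.q_ne_one d.q_ne_z

/-- Every element of the Sylow subgroup fixes or inverts `q`, and fixes or inverts `l`. -/
theorem signs {s : G} (hs : s ∈ (c.S : Subgroup G)) :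
    (s * d.q * s⁻¹ = d.q ∨ s * d.q * s⁻¹ = d.q * c.z) ∧ (s * d.l * s⁻¹ = d.l ∨ s * d.l * s⁻¹ = d.l * c.z) ∧
      (s ∈ c.T ↔ (s * d.q * s⁻¹ = d.q ↔ s * d.l * s⁻¹ = d.l)) := by
  set a := s * d.q * s⁻¹ with ha
  set b := s * d.l * s⁻¹ with hb
  have haX : a ∈ d.X := d.X_normal s hs _ d.q_mem
  have hbL : b ∈ d.L := d.L_normal hs d.l_memL
  have hab : s * c.u * s⁻¹ = a * b := by rw [d.u_eq, ha, hb]; group
  obtain ⟨e, he, heT, hab'⟩ : ∃ e : G, (e = 1 ∨ e = c.z) ∧ (s ∈ c.T ↔ e = 1) ∧ a * b = c.u * e := by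
    by_cases hT : s ∈ c.T
    · refine ⟨1, Or.inl rfl, iff_of_true hT rfl, ?_⟩
      rw [← hab, (c.mem_T_iff.1 hT).2, mul_inv_cancel_right, mul_one]
    · exact ⟨c.z, Or.inr rfl, iff_of_false hT c.z_ne, by rw [← hab, c.conj_u hs hT]⟩
  have heL : e ∈ d.L := by rcases he with rfl | rfl; exacts [one_mem _, d.z_memL]
  have hw : d.q⁻¹ * a = d.l * e * b⁻¹ := by
    rw [show a = a * b * b⁻¹ by group, hab', d.u_eq]; group
  have hwL : d.q⁻¹ * a ∈ d.L := hw ▸ mul_mem (mul_mem d.l_memL heL) (inv_mem hbL)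
  have hb' : b = (d.q⁻¹ * a)⁻¹ * (d.l * e) := by
    have := d.L_comm hwL (one_mem d.X)
    rw [hw]
    group
  rcases d.XL (mul_mem (inv_mem d.q_mem) haX) hwL with h | h
  · have ea : a = d.q := (inv_mul_eq_one.1 h).symm
    rw [h, inv_one, one_mul] at hb'
    refine ⟨Or.inl ea, ?_, ?_⟩
    · rcases he with rfl | rfl
      · exact Or.inl (by rw [hb', mul_one])
      · exact Or.inr hb'
    · rw [heT, iff_true_left ea, hb']
      exact ⟨fun h' => by rw [h', mul_one], fun h' => by simpa using h'⟩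
  · have ea : a = d.q * c.z := by rw [← h]; group
    rw [h, eq_inv_of_sq c.zz, ← mul_assoc, ← zc d.l_memS] at hb'
    have hne : a ≠ d.q := by rw [ea]; exact ne_mul_z
    refine ⟨Or.inr ea, ?_, ?_⟩
    · rcases he with rfl | rfl
      · exact Or.inr (by rw [hb', mul_one])
      · exact Or.inl (by rw [hb', zz_cancel])
    · rw [heT, iff_false_left hne, hb']
      rcases he with rfl | rfl
      · simpa [ne_mul_z] using c.z_ne
      · simp [c.z_ne, zz_cancel]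

theorem mem_T {s : G} (hs : s ∈ (c.S : Subgroup G)) :
    s ∈ c.T ↔ (s * d.q * s⁻¹ = d.q ↔ s * d.l * s⁻¹ = d.l) := (d.signs hs).2.2

theorem qT : d.q ∈ c.T := (d.mem_T d.qS).2 (iff_of_true (by group) (d.X_fix d.l_memL d.q_mem))

theorem lT : d.l ∈ c.T := (d.mem_T d.l_memS).2 (iff_of_true (d.L_fix d.l_memL d.q_mem) (by group))

/-- The images of `j`. -/
theorem j_conj {s : G} (hs : s ∈ (c.S : Subgroup G)) : s * d.j * s⁻¹ = d.j ∨ s * d.j * s⁻¹ = d.j * c.z ∨
    s * d.j * s⁻¹ = d.q * d.j ∨ s * d.j * s⁻¹ = d.q * d.j * c.z := by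
  have hz' : s * c.z * s⁻¹ = c.z := by rw [zc hs, mul_inv_cancel_right]
  have inj : ∀ a : G, s * d.j * s⁻¹ = s * a * s⁻¹ → d.j = a := fun a h => mul_left_cancel (mul_right_cancel h)
  have hj1 : d.j ≠ 1 := fun e => c.z_ne (by rw [← d.jj, e, one_mul])
  have hjz : d.j ≠ c.z := fun e => c.z_ne (by rw [← d.jj, e, c.zz])
  have hjq : d.j ≠ d.q := fun e => by
    have h := d.qj
    rw [e, mul_inv_cancel_right] at h
    exact ne_mul_z h.symm
  have hjqz : d.j ≠ d.q * c.z := fun e => by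
    have h := d.qj
    rw [e, conj_z d.qS, mul_inv_cancel_right] at h
    exact ne_mul_z h.symm
  rcases d.X_cases _ (d.X_normal s hs _ d.j_mem) with h | h | h | h | h | h | h | h
  · exact absurd (conj_eq_one_iff.1 h) hj1
  · exact absurd (inj c.z (h.trans hz'.symm)) hjz
  · rcases (d.signs hs).1 with e | e
    · exact absurd (inj d.q (h.trans e.symm)) hjq
    · refine absurd (inj (d.q * c.z) ?_) hjqz
      rw [h, conj_z hs, e, zz_cancel]
  · rcases (d.signs hs).1 with e | e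
    · refine absurd (inj (d.q * c.z) ?_) hjqz
      rw [h, conj_z hs, e]
    · exact absurd (inj d.q (h.trans e.symm)) hjq
  · exact Or.inl h
  · exact Or.inr (Or.inl h)
  · exact Or.inr (Or.inr (Or.inl h))
  · exact Or.inr (Or.inr (Or.inr h))

/-- Acting on `X` as an inner automorphism. -/
def Inn (s : G) : Prop := s * d.j * s⁻¹ = d.j ∨ s * d.j * s⁻¹ = d.j * c.z

theorem qj_ne : d.q * d.j ≠ d.j ∧ d.q * d.j ≠ d.j * c.z ∧ d.q * d.j * c.z ≠ d.j ∧
    d.q * d.j * c.z ≠ d.j * c.z := by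
  refine ⟨fun e => d.q_ne_one (mul_eq_right.1 e), fun e => d.q_ne_z ?_, fun e => d.q_ne_z ?_,
    fun e => d.q_ne_one (mul_eq_right.1 (mul_right_cancel e))⟩
  · rw [zc d.jS] at e
    exact mul_right_cancel e
  · have := congrArg (· * c.z) e
    simp only [zz_cancel, zc d.jS] at this
    exact mul_right_cancel this

theorem outer_conj {s : G} (hs : s ∈ (c.S : Subgroup G)) (h : ¬ d.Inn s) :
    s * d.j * s⁻¹ = d.q * d.j ∨ s * d.j * s⁻¹ = d.q * d.j * c.z := by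
  rcases d.j_conj hs with e | e | e | e
  exacts [absurd (Or.inl e) h, absurd (Or.inr e) h, Or.inl e, Or.inr e]

theorem inn_mul {r s : G} (hr : r ∈ (c.S : Subgroup G)) (hs : s ∈ (c.S : Subgroup G)) :
    d.Inn (r * s) ↔ (d.Inn r ↔ d.Inn s) := by
  have e : r * s * d.j * (r * s)⁻¹ = r * (s * d.j * s⁻¹) * r⁻¹ := by group
  obtain ⟨n1, n2, n3, n4⟩ := d.qj_ne
  have eqj : r * (d.q * d.j) * r⁻¹ = r * d.q * r⁻¹ * (r * d.j * r⁻¹) := conj_mul.symm
  have hjz : ∀ a b : G, b ∈ (c.S : Subgroup G) → a * c.z * b = a * b * c.z := fun a b hb => by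
    rw [mul_assoc, ← zc hb, ← mul_assoc]
  by_cases hS : d.Inn s
  · rw [iff_true_right hS]
    rcases hS with h | h <;> simp only [Inn, e, h, conj_z hr]
    rcases d.j_conj hr with f | f | f | f <;> simp [f, zz_cancel, n1, n2, n3, n4]
  · rw [iff_false_right hS]
    by_cases hR : d.Inn r
    · rw [iff_false_right (not_not.2 hR)]
      have key : r * (d.q * d.j) * r⁻¹ = d.q * d.j ∨ r * (d.q * d.j) * r⁻¹ = d.q * d.j * c.z := by
        rcases hR with f | f <;> rcases (d.signs hr).1 with g | g <;> rw [eqj, f, g]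
        · exact Or.inl rfl
        · exact Or.inr (hjz _ _ d.jS)
        · exact Or.inr (by rw [← mul_assoc])
        · exact Or.inl (by rw [← mul_assoc, hjz _ _ d.jS, zz_cancel])
      rcases d.outer_conj hs hS with h | h <;> rcases key with k | k <;>
        simp only [Inn, e, h, conj_z hr, k, zz_cancel] <;> simp [n1, n2, n3, n4]
    · rw [iff_true_right hR]
      have key : r * (d.q * d.j) * r⁻¹ = d.j ∨ r * (d.q * d.j) * r⁻¹ = d.j * c.z := by
        rcases d.outer_conj hr hR with f | f <;> rcases (d.signs hr).1 with g | g <;> rw [eqj, f, g]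
        · exact Or.inr (by rw [← mul_assoc, d.qq, zc d.jS])
        · exact Or.inl (by rw [hjz _ _ (mul_mem d.qS d.jS), ← mul_assoc, d.qq, ← zc d.jS, zz_cancel])
        · exact Or.inl (by rw [← mul_assoc, ← mul_assoc, d.qq, ← zc d.jS, zz_cancel])
        · exact Or.inr (by
            rw [← mul_assoc (d.q * c.z), hjz _ _ (mul_mem d.qS d.jS), zz_cancel, ← mul_assoc, d.qq, zc d.jS])
      rcases d.outer_conj hs hS with h | h <;> rcases key with k | k <;>
        simp only [Inn, e, h, conj_z hr, k, zz_cancel] <;> simp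

theorem inn_X {x : G} (hx : x ∈ d.X) : d.Inn x := by
  by_contra h
  have hs := d.X_le hx
  rcases d.X_cases x hx with e | e | e | e | e | e | e | e <;> apply h <;> rw [e]
  · left; group
  · left; rw [← zc d.jS, mul_inv_cancel_right]
  · exact Or.inr d.qj
  · refine (d.inn_mul d.qS c.zS).2 (iff_of_true (Or.inr d.qj) ?_)
    left; rw [← zc d.jS, mul_inv_cancel_right]
  · left; group
  · refine (d.inn_mul d.jS c.zS).2 (iff_of_true (Or.inl (by group)) ?_)
    left; rw [← zc d.jS, mul_inv_cancel_right]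
  · exact (d.inn_mul d.qS d.jS).2 (iff_of_true (Or.inr d.qj) (Or.inl (by group)))
  · refine (d.inn_mul (mul_mem d.qS d.jS) c.zS).2 (iff_of_true
      ((d.inn_mul d.qS d.jS).2 (iff_of_true (Or.inr d.qj) (Or.inl (by group)))) ?_)
    left; rw [← zc d.jS, mul_inv_cancel_right]

theorem inn_L {m : G} (hm : m ∈ d.L) : d.Inn m := Or.inl (d.L_fix hm d.j_mem)

/-- An element acting as an inner automorphism lies in `XL`. -/
theorem decomp {s : G} (hs : s ∈ (c.S : Subgroup G)) (h : d.Inn s) : ∃ x ∈ d.X, ∃ m ∈ d.L, s = x * m := by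
  obtain ⟨x, hx, hxq, hxj⟩ : ∃ x ∈ d.X, x * d.q * x⁻¹ = s * d.q * s⁻¹ ∧ x * d.j * x⁻¹ = s * d.j * s⁻¹ := by
    rcases (d.signs hs).1 with e1 | e1 <;> rcases h with e2 | e2 <;> rw [e1, e2]
    · exact ⟨1, one_mem _, by group, by group⟩
    · exact ⟨d.q, d.q_mem, by group, d.qj⟩
    · exact ⟨d.j, d.j_mem, d.jq, by group⟩
    · refine ⟨d.q * d.j, mul_mem d.q_mem d.j_mem, ?_, ?_⟩
      · rw [show d.q * d.j * d.q * (d.q * d.j)⁻¹ = d.q * (d.j * d.q * d.j⁻¹) * d.q⁻¹ by group, d.jq,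
          conj_z d.qS, mul_inv_cancel_right]
      · rw [show d.q * d.j * d.j * (d.q * d.j)⁻¹ = d.q * d.j * d.q⁻¹ by group, d.qj]
  refine ⟨x, hx, x⁻¹ * s, d.mem_L.2 ⟨mul_mem (inv_mem (d.X_le hx)) hs, fun y hy => ?_⟩, by group⟩
  refine mul_inv_eq_iff_eq_mul.1 ?_
  set w := x⁻¹ * s with hw
  have hwq : w * d.q * w⁻¹ = d.q := by
    rw [hw, show x⁻¹ * s * d.q * (x⁻¹ * s)⁻¹ = x⁻¹ * (s * d.q * s⁻¹) * x by group, ← hxq]; group
  have hwj : w * d.j * w⁻¹ = d.j := by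
    rw [hw, show x⁻¹ * s * d.j * (x⁻¹ * s)⁻¹ = x⁻¹ * (s * d.j * s⁻¹) * x by group, ← hxj]; group
  have hwz : w * c.z * w⁻¹ = c.z := by
    rw [zc (mul_mem (inv_mem (d.X_le hx)) hs), mul_inv_cancel_right]
  have hwm : ∀ a b : G, w * a * w⁻¹ = a → w * b * w⁻¹ = b → w * (a * b) * w⁻¹ = a * b := fun a b ha hb => by
    rw [← conj_mul, ha, hb]
  rcases d.X_cases y hy with e | e | e | e | e | e | e | e <;> rw [e]
  exacts [by group, hwz, hwq, hwm _ _ hwq hwz, hwj, hwm _ _ hwj hwz, hwm _ _ hwq hwj,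
    hwm _ _ (hwm _ _ hwq hwj) hwz]

/-- The square of an element acting as an outer automorphism and fixing `q`. -/
theorem sq_fix {s : G} (hs : s ∈ (c.S : Subgroup G)) (h : ¬ d.Inn s) (hq : s * d.q * s⁻¹ = d.q) :
    ∃ m ∈ d.L, s * s = d.q * m := by
  refine ⟨d.q⁻¹ * (s * s), ?_, by group⟩
  obtain ⟨x, hx, m, hm, e⟩ := d.decomp (mul_mem hs hs) ((d.inn_mul hs hs).2 Iff.rfl)
  have hj : s * s * d.j * (s * s)⁻¹ = d.j * c.z := by
    rw [show s * s * d.j * (s * s)⁻¹ = s * (s * d.j * s⁻¹) * s⁻¹ by group]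
    have e2 : s * (d.q * d.j) * s⁻¹ = d.q * (s * d.j * s⁻¹) := by
      rw [← conj_mul, hq]
    have hz := zc d.jS
    rcases d.outer_conj hs h with f | f
    · rw [f, e2, f, ← mul_assoc, d.qq, ← hz]
    · rw [f, conj_z hs, e2, f, ← mul_assoc d.q, zz_cancel, ← mul_assoc, d.qq, ← hz]
  have hqq : s * s * d.q * (s * s)⁻¹ = d.q := by
    rw [show s * s * d.q * (s * s)⁻¹ = s * (s * d.q * s⁻¹) * s⁻¹ by group, hq, hq]
  have hw : d.q⁻¹ * (s * s) ∈ d.L := by
    set w := d.q⁻¹ * (s * s) with hw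
    have hwS : w ∈ (c.S : Subgroup G) := mul_mem (inv_mem d.qS) (mul_mem hs hs)
    have hwj : w * d.j * w⁻¹ = d.j := by
      rw [hw, show d.q⁻¹ * (s * s) * d.j * (d.q⁻¹ * (s * s))⁻¹ = d.q⁻¹ * (s * s * d.j * (s * s)⁻¹) * d.q by group,
        hj, ← d.qj]
      group
    have hwq : w * d.q * w⁻¹ = d.q := by
      rw [hw, show d.q⁻¹ * (s * s) * d.q * (d.q⁻¹ * (s * s))⁻¹ = d.q⁻¹ * (s * s * d.q * (s * s)⁻¹) * d.q by group,
        hqq]
      group
    obtain ⟨y, hy, m', hm', e'⟩ := d.decomp hwS (Or.inl hwj)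
    have hyj : y * d.j * y⁻¹ = d.j := by
      rw [e', show y * m' * d.j * (y * m')⁻¹ = y * (m' * d.j * m'⁻¹) * y⁻¹ by group, d.L_fix hm' d.j_mem] at hwj
      exact hwj
    have hyq : y * d.q * y⁻¹ = d.q := by
      rw [e', show y * m' * d.q * (y * m')⁻¹ = y * (m' * d.q * m'⁻¹) * y⁻¹ by group, d.L_fix hm' d.q_mem] at hwq
      exact hwq
    have hyL : y ∈ d.L := by
      refine d.mem_L.2 ⟨d.X_le hy, fun v hv => ?_⟩
      have hA : ∀ v ∈ ({d.q, d.j, c.z} : Set G), v ∈ centralizer ({y} : Set G) := by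
        rintro v (rfl | rfl | rfl)
        · exact mem_centralizer_singleton_iff.2 (mul_inv_eq_iff_eq_mul.1 hyq).symm
        · exact mem_centralizer_singleton_iff.2 (mul_inv_eq_iff_eq_mul.1 hyj).symm
        · exact mem_centralizer_singleton_iff.2 (zc (d.X_le hy)).symm
      have hq' := hA d.q (by simp)
      have hj' := hA d.j (by simp)
      have hz' := hA c.z (by simp)
      refine (mem_centralizer_singleton_iff.1 ?_).symm
      rcases d.X_cases v hv with e | e | e | e | e | e | e | e <;> rw [e]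
      exacts [one_mem _, hz', hq', mul_mem hq' hz', hj', mul_mem hj' hz', mul_mem hq' hj',
        mul_mem (mul_mem hq' hj') hz']
    exact e' ▸ mul_mem hyL hm'
  exact hw

/-- The square of an element acting as an outer automorphism and inverting `q`. -/
theorem sq_inv {s : G} (hs : s ∈ (c.S : Subgroup G)) (h : ¬ d.Inn s) (hq : s * d.q * s⁻¹ = d.q * c.z) :
    s * s ∈ d.L := by
  have hqq : s * s * d.q * (s * s)⁻¹ = d.q := by
    rw [show s * s * d.q * (s * s)⁻¹ = s * (s * d.q * s⁻¹) * s⁻¹ by group, hq, conj_z hs, hq, zz_cancel]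
  have hj : s * s * d.j * (s * s)⁻¹ = d.j := by
    rw [show s * s * d.j * (s * s)⁻¹ = s * (s * d.j * s⁻¹) * s⁻¹ by group]
    have e2 : s * (d.q * d.j) * s⁻¹ = d.q * c.z * (s * d.j * s⁻¹) := by rw [← conj_mul, hq]
    have hz := zc d.jS
    have key : d.q * c.z * (d.q * d.j) = d.j := by
      rw [mul_assoc d.q c.z, ← zc (mul_mem d.qS d.jS), ← mul_assoc, ← mul_assoc, d.qq, ← hz, zz_cancel]
    rcases d.outer_conj hs h with f | f
    · rw [f, e2, f, key]
    · rw [f, conj_z hs, e2, f, ← mul_assoc (d.q * c.z), key, zz_cancel]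
  refine d.mem_L.2 ⟨mul_mem hs hs, fun v hv => mul_inv_eq_iff_eq_mul.1 ?_⟩
  have hwm : ∀ a b : G, s * s * a * (s * s)⁻¹ = a → s * s * b * (s * s)⁻¹ = b →
      s * s * (a * b) * (s * s)⁻¹ = a * b := fun a b ha hb => by rw [← conj_mul, ha, hb]
  have hwz : s * s * c.z * (s * s)⁻¹ = c.z := by rw [zc (mul_mem hs hs), mul_inv_cancel_right]
  rcases d.X_cases v hv with e | e | e | e | e | e | e | e <;> rw [e]
  exacts [by group, hwz, hqq, hwm _ _ hqq hwz, hj, hwm _ _ hj hwz, hwm _ _ hqq hj,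
    hwm _ _ (hwm _ _ hqq hj) hwz]

/-- An involution acting as an outer automorphism inverts `q`. -/
theorem invol_outer {s : G} (hs : s ∈ (c.S : Subgroup G)) (h : ¬ d.Inn s) (h2 : s * s = 1) :
    s * d.q * s⁻¹ = d.q * c.z := by
  refine (d.signs hs).1.resolve_left fun hq => ?_
  obtain ⟨m, hm, e⟩ := d.sq_fix hs h hq
  rw [h2] at e
  exact d.q_notin_L (by rw [eq_inv_of_mul_eq_one_left e.symm]; exact inv_mem hm)

end Quat

end CfsgLib.NoEightConstrained
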