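/-
The centraliser of `l` in `L` has one involution.

Blueprint: `blueprint/S3272.md`, part P4.
-/
import Cfsg.Agent.Lib.NoEightConstrained.Quat.Basics
import Cfsg.Agent.Lib.PGroup.RankTwoNormal

set_option autoImplicit false
set_option linter.style.haveILetI false

namespace CfsgLib.NoEightConstrained

open Subgroup

variable {G : Type*} [Group G] [Finite G]

/-- In an abelian subgroup with one involution the squares have index at most two. -/
theorem cover_squares {A : Subgroup G} (hAc : ∀ a ∈ A, ∀ b ∈ A, a * b = b * a) {z : G} (hzA : z ∈ A)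
    (hzz : z * z = 1) (hz1 : z ≠ 1) (hA2 : ∀ a ∈ A, a * a = 1 → a = 1 ∨ a = z) {a₀ : G} (ha₀ : a₀ ∈ A)
    (hns : ∀ y ∈ A, a₀ ≠ y * y) : ∀ a ∈ A, (∃ y ∈ A, a = y * y) ∨ ∃ y ∈ A, a = a₀ * (y * y) := by
  letI : CommGroup ↥A :=
    { (inferInstance : Group ↥A) with mul_comm := fun a b => Subtype.ext (hAc _ a.2 _ b.2) }
  let f : ↥A →* ↥A := powMonoidHom 2
  have hf : ∀ a : ↥A, (f a : G) = (a : G) * a := fun a => by
    show (((a ^ 2 : ↥A)) : G) = _
    rw [SubgroupClass.coe_pow, pow_two]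
  have hker : Nat.card ↥f.ker = 2 := by
    refine (Nat.card_eq_two_iff).2 ⟨1, ⟨⟨z, hzA⟩, MonoidHom.mem_ker.2 (Subtype.ext (by rw [hf]; exact hzz))⟩,
      fun e => hz1 (congrArg (fun w : ↥f.ker => ((w : ↥A) : G)) e).symm, Set.eq_univ_of_forall fun ⟨a, ha⟩ => ?_⟩
    have h := congrArg Subtype.val (MonoidHom.mem_ker.1 ha)
    rw [hf] at h
    rcases hA2 _ a.2 h with e | e
    · exact Set.mem_insert_iff.2 (Or.inl (Subtype.ext (Subtype.ext e)))
    · exact Set.mem_insert_iff.2 (Or.inr (Subtype.ext (Subtype.ext e)))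
  have hi : f.range.index = 2 := by
    have h1 := f.ker.card_mul_index
    have h2 := f.range.card_mul_index
    rw [hker, index_ker] at h1
    rw [← h1, mul_comm 2] at h2
    exact Nat.eq_of_mul_eq_mul_left Nat.card_pos h2
  have hmem : ∀ a : ↥A, a ∈ f.range → ∃ y ∈ A, (a : G) = y * y := by
    rintro a ⟨y, rfl⟩
    exact ⟨y, y.2, hf y⟩
  have ha₀' : (⟨a₀, ha₀⟩ : ↥A) ∉ f.range := fun h => by
    obtain ⟨y, hy, e⟩ := hmem _ h
    exact hns y hy e
  intro a ha
  by_cases h : (⟨a, ha⟩ : ↥A) ∈ f.range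
  · exact Or.inl (hmem _ h)
  · right
    obtain ⟨y, hy, e⟩ := hmem _ ((mul_mem_iff_of_index_two hi (a := (⟨a₀, ha₀⟩ : ↥A)⁻¹) (b := ⟨a, ha⟩)).2
      (iff_of_false (fun h' => ha₀' ((inv_inv (⟨a₀, ha₀⟩ : ↥A)) ▸ inv_mem h')) h))
    refine ⟨y, hy, ?_⟩
    rw [← e]
    show a = a₀ * (a₀⁻¹ * a)
    group

namespace Ctx2

variable (c : Ctx2 G)

/-- Between two normal subgroups of the Sylow subgroup there is an element central modulo the smaller. -/
theorem exists_next {A C : Subgroup G} (hAC : A ≤ C) (hCS : C ≤ (c.S : Subgroup G))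
    (hAn : ∀ s ∈ (c.S : Subgroup G), ∀ x ∈ A, s * x * s⁻¹ ∈ A)
    (hCn : ∀ s ∈ (c.S : Subgroup G), ∀ x ∈ C, s * x * s⁻¹ ∈ C) (hne : A ≠ C) :
    ∃ b ∈ C, b ∉ A ∧ b * b ∈ A ∧ ∀ s ∈ (c.S : Subgroup G), s * b * s⁻¹ * b⁻¹ ∈ A := by
  haveI := Fact.mk Nat.prime_two
  set A' := A.subgroupOf (c.S : Subgroup G) with hA'
  set C' := C.subgroupOf (c.S : Subgroup G) with hC'
  haveI : A'.Normal := ⟨fun x hx s => hAn _ s.2 _ hx⟩
  haveI : C'.Normal := ⟨fun x hx s => hCn _ s.2 _ hx⟩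
  have hlt : A' < C' := by
    refine lt_of_le_of_ne (fun x hx => hAC hx) fun e => hne (le_antisymm hAC fun x hx => ?_)
    exact (e.ge (show (⟨x, hCS hx⟩ : ↥(c.S : Subgroup G)) ∈ C' from hx) : _)
  obtain ⟨M, hMn, hAM, hMC, hcard⟩ := CfsgLib.PGroupRankTwo.exists_normal_step c.S.2 hlt
  have hi : (A'.subgroupOf M).index = 2 := by
    have h := (A'.subgroupOf M).card_mul_index
    rw [Nat.card_congr (subgroupOfEquivOfLe hAM).toEquiv, hcard] at h
    exact Nat.eq_of_mul_eq_mul_left Nat.card_pos h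
  obtain ⟨b, hbM, hbA⟩ := SetLike.not_le_iff_exists.1 (fun h : M ≤ A' => by
    have := card_le_of_le h
    rw [hcard] at this
    have := Nat.card_pos (α := ↥A')
    omega)
  refine ⟨b, hMC hbM, hbA, ?_, fun s hs => ?_⟩
  · exact (mul_mem_iff_of_index_two hi (a := ⟨b, hbM⟩) (b := ⟨b, hbM⟩)).2 Iff.rfl
  · have hc : (⟨s, hs⟩ : ↥(c.S : Subgroup G)) * b * (⟨s, hs⟩)⁻¹ ∈ M := hMn.conj_mem b hbM _
    refine (mul_mem_iff_of_index_two hi (a := ⟨_, hc⟩) (b := ⟨b, hbM⟩⁻¹)).2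
      (iff_of_false (fun h => hbA ?_) (fun h => hbA (by simpa [mem_subgroupOf] using inv_mem h)))
    have h' : (⟨s, hs⟩ : ↥(c.S : Subgroup G)) * b * (⟨s, hs⟩)⁻¹ ∈ A' := h
    have := (inferInstance : A'.Normal).conj_mem _ h' (⟨s, hs⟩ : ↥(c.S : Subgroup G))⁻¹
    simpa [mul_assoc] using this

/-- An element of the Sylow subgroup with nontrivial square has a power of order four. -/
theorem exists_pow_four {x : G} (hx : x ∈ (c.S : Subgroup G)) (h : x * x ≠ 1) :
    ∃ i : ℕ, x ^ i * x ^ i ≠ 1 ∧ x ^ i * x ^ i * (x ^ i * x ^ i) = 1 := by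
  classical
  obtain ⟨k, hk⟩ := c.S.2 ⟨x, hx⟩
  have hk' : x ^ 2 ^ k = 1 := congrArg Subtype.val hk
  have hex : ∃ n, x ^ 2 ^ n = 1 := ⟨k, hk'⟩
  set n := Nat.find hex with hn
  have h2 : 2 ≤ n := by
    by_contra hlt
    have h1 := Nat.find_spec hex
    rw [← hn] at h1
    interval_cases n
    · simp only [pow_zero, pow_one] at h1
      exact h (by rw [h1, one_mul])
    · rw [pow_one, pow_two] at h1
      exact h h1
  refine ⟨2 ^ (n - 2), fun e => Nat.find_min hex (show n - 1 < n by omega) ?_, ?_⟩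
  · rw [← pow_add, ← two_mul, ← pow_succ'] at e
    rwa [show n - 1 = n - 2 + 1 by omega]
  · rw [← pow_add, ← pow_add, show 2 ^ (n - 2) + 2 ^ (n - 2) + (2 ^ (n - 2) + 2 ^ (n - 2)) = 2 ^ n by
      conv_rhs => rw [show n = n - 2 + 2 by omega, pow_add]
      ring]
    exact Nat.find_spec hex

end Ctx2

namespace Quat

variable {c : Ctx2 G} (d : Quat c)

/-- No involution of `L` other than `z` has all its conjugates in its coset of `z`. -/
theorem four_false {b : G} (hb : b ∈ d.L) (hb2 : b * b = 1) (hb1 : b ≠ 1) (hbz : b ≠ c.z)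
    (hn : ∀ s ∈ (c.S : Subgroup G), s * b * s⁻¹ = b ∨ s * b * s⁻¹ = b * c.z) : False := by
  classical
  have hzb : b * c.z = c.z * b := zc (d.L_le hb)
  let V : Subgroup G :=
    { carrier := {x | x = 1 ∨ x = c.z ∨ x = b ∨ x = b * c.z}
      one_mem' := Or.inl rfl
      mul_mem' := by
        rintro x y (rfl | rfl | rfl | rfl) (rfl | rfl | rfl | rfl) <;>
          simp only [Set.mem_setOf_eq, one_mul, mul_one, c.zz, hb2, zz_cancel, ← mul_assoc, ← hzb, true_or, or_true]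
        all_goals simp [mul_assoc, c.zz, ← hzb, hb2]
        all_goals simp [← mul_assoc, hb2, c.zz]
      inv_mem' := by
        rintro x (rfl | rfl | rfl | rfl)
        · exact Or.inl inv_one
        · exact Or.inr (Or.inl (eq_inv_of_sq c.zz))
        · exact Or.inr (Or.inr (Or.inl (eq_inv_of_sq hb2)))
        · exact Or.inr (Or.inr (Or.inr (eq_inv_of_sq (sq_mul_of_comm hb2 c.zz hzb)))) }
  have hV : ∀ x, x ∈ V ↔ x = 1 ∨ x = c.z ∨ x = b ∨ x = b * c.z := fun x => Iff.rfl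
  have hVL : V ≤ d.L := by
    rintro x (rfl | rfl | rfl | rfl)
    exacts [one_mem _, d.z_memL, hb, mul_mem hb d.z_memL]
  refine c.no_four d.R_le (hVL.trans d.L_le) (fun v hv x hx => d.L_comm (hVL hv) hx) ?_ ?_ ?_ (V := V)
  · intro s hs v hv
    have hz : s * c.z * s⁻¹ = c.z := by rw [zc hs, mul_inv_cancel_right]
    rw [hV]
    rcases (hV v).1 hv with rfl | rfl | rfl | rfl
    · left; group
    · exact Or.inr (Or.inl hz)
    · exact Or.inr (Or.inr (hn s hs))
    · rw [conj_z hs]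
      rcases hn s hs with e | e <;> rw [e]
      · exact Or.inr (Or.inr (Or.inr rfl))
      · exact Or.inr (Or.inr (Or.inl (zz_cancel b)))
  · let f : Fin 4 → ↥V := ![⟨1, Or.inl rfl⟩, ⟨c.z, Or.inr (Or.inl rfl)⟩, ⟨b, Or.inr (Or.inr (Or.inl rfl))⟩,
      ⟨b * c.z, Or.inr (Or.inr (Or.inr rfl))⟩]
    have hbz1 : b * c.z ≠ 1 := fun e => hbz (by rw [eq_inv_of_mul_eq_one_left e, eq_inv_of_sq c.zz])
    have hbzz : b * c.z ≠ c.z := fun e => hb1 (mul_eq_right.1 e)
    have hf : Function.Bijective f := by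
      refine ⟨fun i k hik => ?_, fun ⟨x, hx⟩ => ?_⟩
      · fin_cases i <;> fin_cases k <;>
          simp_all [f, Subtype.ext_iff, Ne.symm hb1, Ne.symm hbz, Ne.symm c.z_ne, c.z_ne, Ne.symm hbz1,
            Ne.symm hbzz]
      · rcases (hV x).1 hx with h | h | h | h
        exacts [⟨0, Subtype.ext h.symm⟩, ⟨1, Subtype.ext h.symm⟩, ⟨2, Subtype.ext h.symm⟩, ⟨3, Subtype.ext h.symm⟩]
    rw [← Nat.card_eq_of_bijective f hf, Nat.card_fin]
  · rintro x (rfl | rfl | rfl | rfl)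
    exacts [one_mul 1, c.zz, hb2, sq_mul_of_comm hb2 c.zz hzb]

/-- The centraliser of `l` in `L`. -/
def K : Subgroup G := d.L ⊓ centralizer ({d.l} : Set G)

theorem mem_K {k : G} : k ∈ d.K ↔ k ∈ d.L ∧ k * d.l = d.l * k :=
  ⟨fun h => ⟨h.1, mem_centralizer_singleton_iff.1 h.2⟩, fun h => ⟨h.1, mem_centralizer_singleton_iff.2 h.2⟩⟩

theorem K_le : d.K ≤ d.L := inf_le_left

theorem l_memK : d.l ∈ d.K := d.mem_K.2 ⟨d.l_memL, rfl⟩

theorem z_memK : c.z ∈ d.K := d.mem_K.2 ⟨d.z_memL, (zc d.l_memS).symm⟩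

theorem K_normal {s k : G} (hs : s ∈ (c.S : Subgroup G)) (hk : k ∈ d.K) : s * k * s⁻¹ ∈ d.K := by
  refine d.mem_K.2 ⟨d.L_normal hs (d.K_le hk), ?_⟩
  have h : k * (s⁻¹ * d.l * s) = s⁻¹ * d.l * s * k := by
    have hkz : k * c.z = c.z * k := zc (d.L_le (d.K_le hk))
    rcases (d.signs (inv_mem hs)).2.1 with e | e <;> rw [inv_inv] at e <;> rw [e]
    · exact (d.mem_K.1 hk).2
    · rw [← mul_assoc, (d.mem_K.1 hk).2, mul_assoc, hkz, mul_assoc]
  calc s * k * s⁻¹ * d.l = s * (k * (s⁻¹ * d.l * s)) * s⁻¹ := by group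
    _ = d.l * (s * k * s⁻¹) := by rw [h]; group

/-- The centraliser of `l` in `L` has one involution. -/
theorem K_invol {k : G} (hk : k ∈ d.K) (hk2 : k * k = 1) : k = 1 ∨ k = c.z := by
  classical
  by_contra hne
  push Not at hne
  obtain ⟨hk1, hkz⟩ := hne
  set S : Subgroup G := (c.S : Subgroup G) with hS
  have hKS : d.K ≤ S := d.K_le.trans d.L_le
  -- a maximal normal abelian subgroup through `l`
  obtain ⟨A, ⟨hAK, hAn, hAc, hlA⟩, hmax⟩ := (Set.toFinite {B : Subgroup G | B ≤ d.K ∧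
    (∀ s ∈ S, ∀ x ∈ B, s * x * s⁻¹ ∈ B) ∧ (∀ a ∈ B, ∀ b ∈ B, a * b = b * a) ∧ d.l ∈ B}).exists_maximal
      ⟨zpowers d.l, zpowers_le.2 d.l_memK, by
        rintro s hs x ⟨i, rfl⟩
        show s * d.l ^ i * s⁻¹ ∈ zpowers d.l
        rw [← conj_zpow]
        refine zpow_mem ?_ i
        rcases (d.signs hs).2.1 with e | e <;> rw [e]
        · exact mem_zpowers _
        · exact mul_mem (mem_zpowers _) (d.ll ▸ mul_mem (mem_zpowers _) (mem_zpowers _)), by
        rintro a ⟨i, rfl⟩ b ⟨j, rfl⟩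
        exact (Commute.refl d.l).zpow_zpow i j |>.eq, mem_zpowers _⟩
  have hAS : A ≤ S := hAK.trans hKS
  have hzA : c.z ∈ A := d.ll ▸ mul_mem hlA hlA
  -- one involution
  have hA2 : ∀ a ∈ A, a * a = 1 → a = 1 ∨ a = c.z := by
    let O : Subgroup G :=
      { carrier := {x | x ∈ A ∧ x * x = 1}
        one_mem' := ⟨A.one_mem, one_mul 1⟩
        mul_mem' := fun {a b} ha hb => ⟨mul_mem ha.1 hb.1, sq_mul_of_comm ha.2 hb.2 (hAc a ha.1 b hb.1)⟩
        inv_mem' := fun {a} ha => ⟨inv_mem ha.1, by rw [eq_inv_of_sq ha.2]; exact ha.2⟩ }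
    intro a ha ha2
    by_contra hne
    push Not at hne
    have hZ : ∀ x ∈ zpowers c.z, x = 1 ∨ x = c.z := by
      rintro x ⟨i, rfl⟩
      show c.z ^ i = 1 ∨ c.z ^ i = c.z
      rcases Int.even_or_odd i with ⟨m, rfl⟩ | ⟨m, rfl⟩
      · exact Or.inl (by rw [← two_mul, zpow_mul, zpow_two, c.zz, one_zpow])
      · exact Or.inr (by rw [zpow_add, zpow_mul, zpow_two, c.zz, one_zpow, one_mul, zpow_one])
    obtain ⟨b, hbO, hbZ, -, hbn⟩ := c.exists_next (A := zpowers c.z) (C := O)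
      (zpowers_le.2 ⟨hzA, c.zz⟩) (fun x hx => hAS hx.1)
      (fun s hs x hx => by
        rcases hZ x hx with rfl | rfl
        · rw [mul_one, mul_inv_cancel]; exact one_mem _
        · rw [zc hs, mul_inv_cancel_right]; exact mem_zpowers _)
      (fun s hs x hx => ⟨hAn s hs x hx.1, by
        rw [show s * x * s⁻¹ * (s * x * s⁻¹) = s * (x * x) * s⁻¹ by group, hx.2]; group⟩)
      (fun e => (hZ a (e ▸ (⟨ha, ha2⟩ : a ∈ O))).elim hne.1 hne.2)
    refine d.four_false (d.K_le (hAK hbO.1)) hbO.2 (fun e => hbZ (e ▸ one_mem _))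
      (fun e => hbZ (e ▸ mem_zpowers _)) fun s hs => ?_
    rcases hZ _ (hbn s hs) with e | e
    · exact Or.inl (mul_inv_eq_one.1 e)
    · exact Or.inr (by rw [mul_inv_eq_iff_eq_mul.1 e, zc (hAS hbO.1)])
  -- elements of order four
  have hA4 : ∀ a ∈ A, a * a = c.z → a = d.l ∨ a = d.l * c.z := by
    intro a ha ha2
    have h1 : a * d.l * (a * d.l) = 1 := by
      rw [show a * d.l * (a * d.l) = a * (d.l * a) * d.l by group, hAc _ hlA _ ha,
        show a * (a * d.l) * d.l = a * a * (d.l * d.l) by group, ha2, d.ll, c.zz]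
    rcases hA2 _ (mul_mem ha hlA) h1 with e | e
    · refine Or.inr ?_
      rw [eq_inv_of_mul_eq_one_left e]
      exact inv_eq_of_mul_eq_one_right (by rw [← mul_assoc, d.ll, c.zz])
    · exact Or.inl (mul_right_cancel (e.trans d.ll.symm))
  -- self-centralising
  have hCA : ∀ x ∈ d.K, (∀ a ∈ A, x * a = a * x) → x ∈ A := by
    intro x hx hxA
    set C := d.K ⊓ centralizer (A : Set G) with hC
    by_contra hxA'
    obtain ⟨b, hbC, hbA, -, hbn⟩ := c.exists_next (A := A) (C := C)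
      (fun a ha => ⟨hAK ha, mem_centralizer_iff.2 fun a' ha' => hAc a' ha' a ha⟩) (inf_le_left.trans hKS) hAn
      (fun s hs y hy => ⟨d.K_normal hs hy.1, mem_centralizer_iff.2 fun a ha => by
        have ha' : s⁻¹ * a * s ∈ A := by simpa using hAn _ (inv_mem hs) a ha
        calc a * (s * y * s⁻¹) = s * (s⁻¹ * a * s * y) * s⁻¹ := by group
          _ = s * y * s⁻¹ * a := by rw [mem_centralizer_iff.1 hy.2 _ ha']; group⟩)
      (fun e => hxA' (e ▸ ⟨hx, mem_centralizer_iff.2 fun a ha => (hxA a ha).symm⟩))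
    set B := closure (insert b (A : Set G)) with hB
    have hAB : A ≤ B := fun a ha => subset_closure (Set.mem_insert_of_mem _ ha)
    have hbB : b ∈ B := subset_closure (Set.mem_insert _ _)
    have hcomm : ∀ u ∈ insert b (A : Set G), ∀ v ∈ insert b (A : Set G), u * v = v * u := by
      rintro u (rfl | hu) v (rfl | hv)
      · rfl
      · exact (mem_centralizer_iff.1 hbC.2 v hv).symm
      · exact mem_centralizer_iff.1 hbC.2 u hu
      · exact hAc u hu v hv
    refine hbA (hmax (y := B) ⟨(closure_le _).2 ?_, ?_, ?_, hAB hlA⟩ hAB hbB)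
    · rintro u (rfl | hu)
      exacts [hbC.1, hAK hu]
    · intro s hs u hu
      induction hu using closure_induction with
      | mem u hu =>
        rcases hu with rfl | hu
        · rw [show s * u * s⁻¹ = s * u * s⁻¹ * u⁻¹ * u by group]
          exact mul_mem (hAB (hbn s hs)) hbB
        · exact hAB (hAn s hs u hu)
      | one => rw [mul_one, mul_inv_cancel]; exact one_mem _
      | mul u v _ _ ihu ihv => rw [← conj_mul]; exact mul_mem ihu ihv
      | inv u _ ih => rw [← conj_inv]; exact inv_mem ih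
    · haveI : IsMulCommutative ↥B := isMulCommutative_closure hcomm
      exact fun u hu v hv => setLike_mul_comm hu hv
  -- involutions act on `A` by signs
  have hsign : ∀ m ∈ d.K, m * m = 1 → ∀ a ∈ A, m * a * m⁻¹ = a ∨ m * a * m⁻¹ = a * c.z := by
    intro m hm hm2 a ha
    have hmS := hKS hm
    set w := m * a * m⁻¹ * a⁻¹ with hw
    have hwA : w ∈ A := mul_mem (hAn m hmS a ha) (inv_mem ha)
    have hinv : m * w * m⁻¹ = w⁻¹ := by
      rw [hw, eq_inv_of_sq hm2]
      rw [show m * (m * a * m * a⁻¹) * m = m * m * a * (m * a⁻¹ * m) by group, hm2, one_mul,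
        show (m * a * m * a⁻¹)⁻¹ = a * (m⁻¹ * a⁻¹ * m⁻¹) by group, eq_inv_of_sq hm2]
    have hw2 : w * w = 1 := by
      by_contra hw2
      obtain ⟨i, hi1, hi4⟩ := c.exists_pow_four (hAS hwA) hw2
      have hwi : w ^ i ∈ A := pow_mem hwA i
      have hz : w ^ i * w ^ i = c.z := (hA2 _ (mul_mem hwi hwi) hi4).resolve_left hi1
      have hfix : m * w ^ i * m⁻¹ = w ^ i := by
        have hl : m * d.l * m⁻¹ = d.l := by rw [(d.mem_K.1 hm).2, mul_inv_cancel_right]
        rcases hA4 _ hwi hz with e | e <;> rw [e]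
        · exact hl
        · rw [conj_z hmS, hl]
      rw [← conj_pow, hinv, inv_pow] at hfix
      refine hi1 ?_
      calc w ^ i * w ^ i = w ^ i * (w ^ i)⁻¹ := by rw [hfix]
        _ = 1 := mul_inv_cancel _
    rcases hA2 w hwA hw2 with e | e
    · exact Or.inl (mul_inv_eq_one.1 e)
    · exact Or.inr (by rw [mul_inv_eq_iff_eq_mul.1 e, zc (hAS ha)])
  have hout : ∀ m ∈ d.K, m * m = 1 → m ≠ 1 → m ≠ c.z → ∃ a ∈ A, m * a * m⁻¹ = a * c.z := by
    intro m hm hm2 hm1 hmz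
    by_contra hall
    push Not at hall
    have hmA : m ∈ A := hCA m hm fun a ha =>
      mul_inv_eq_iff_eq_mul.1 ((hsign m hm hm2 a ha).resolve_right (hall a ha))
    exact (hA2 m hmA hm2).elim hm1 hmz
  -- squares have index two
  obtain ⟨a₀, ha₀, hka₀⟩ := hout k hk hk2 hk1 hkz
  have hsq : ∀ m ∈ d.K, m * m = 1 → ∀ y ∈ A, m * (y * y) * m⁻¹ = y * y := by
    intro m hm hm2 y hy
    rw [← conj_mul]
    rcases hsign m hm hm2 y hy with e | e <;> rw [e]
    rw [mul_assoc y c.z, ← mul_assoc c.z, ← zc (hAS hy), zz_cancel]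
  have hcover := cover_squares hAc hzA c.zz c.z_ne hA2 ha₀ fun y hy e => by
    have h1 := hsq k hk hk2 y hy
    rw [← e, hka₀] at h1
    exact ne_mul_z h1
  -- the conjugates
  refine d.four_false (d.K_le hk) hk2 hk1 hkz fun s hs => ?_
  set m := s * k * s⁻¹ with hm
  have hmK : m ∈ d.K := d.K_normal hs hk
  have hm2 : m * m = 1 := by
    rw [hm, show s * k * s⁻¹ * (s * k * s⁻¹) = s * (k * k) * s⁻¹ by group, hk2]; group
  have hm1 : m ≠ 1 := fun e => hk1 (conj_eq_one_iff.1 e)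
  have hmz : m ≠ c.z := fun e => hkz (by
    rw [show k = s⁻¹ * m * s by rw [hm]; group, e, mul_assoc, ← zc hs, inv_mul_cancel_left])
  have hma : m * a₀ * m⁻¹ = a₀ * c.z := by
    refine (hsign m hmK hm2 a₀ ha₀).resolve_left fun h => ?_
    obtain ⟨a, ha, e⟩ := hout m hmK hm2 hm1 hmz
    rcases hcover a ha with ⟨y, hy, rfl⟩ | ⟨y, hy, rfl⟩
    · rw [hsq m hmK hm2 y hy] at e
      exact ne_mul_z e.symm
    · rw [← conj_mul, h, hsq m hmK hm2 y hy] at e
      exact ne_mul_z e.symm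
  set p := k * m with hp
  have hpA : p ∈ A := by
    refine hCA p (mul_mem hk hmK) fun a ha => mul_inv_eq_iff_eq_mul.1 ?_
    rw [hp, show k * m * a * (k * m)⁻¹ = k * (m * a * m⁻¹) * k⁻¹ by group]
    rcases hcover a ha with ⟨y, hy, rfl⟩ | ⟨y, hy, rfl⟩
    · rw [hsq m hmK hm2 y hy, hsq k hk hk2 y hy]
    · rw [show m * (a₀ * (y * y)) * m⁻¹ = m * a₀ * m⁻¹ * (m * (y * y) * m⁻¹) by group, hma, hsq m hmK hm2 y hy,
        show k * (a₀ * c.z * (y * y)) * k⁻¹ = k * (a₀ * c.z) * k⁻¹ * (k * (y * y) * k⁻¹) by group,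
        hsq k hk hk2 y hy, conj_z (hKS hk), hka₀, zz_cancel]
  have hinv : k * p * k⁻¹ = p⁻¹ := by
    rw [hp, show k * (k * m) * k⁻¹ = k * k * m * k⁻¹ by group, hk2, one_mul, mul_inv_rev, eq_inv_of_sq hm2]
  have hp2 : p * p = 1 := by
    rcases hsign k hk hk2 p hpA with e | e <;> rw [hinv] at e
    · nth_rewrite 2 [← e]; exact mul_inv_cancel p
    · exfalso
      have hpz : p * p = c.z := by
        have h1 : p * (p * c.z) = 1 := by rw [← e]; exact mul_inv_cancel p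
        rw [← mul_assoc] at h1
        rw [eq_inv_of_mul_eq_one_left h1, eq_inv_of_sq c.zz]
      have hfix : k * p * k⁻¹ = p := by
        have hl : k * d.l * k⁻¹ = d.l := by rw [(d.mem_K.1 hk).2, mul_inv_cancel_right]
        rcases hA4 p hpA hpz with f | f <;> rw [f]
        · exact hl
        · rw [conj_z (hKS hk), hl]
      rw [hinv] at hfix
      refine c.z_ne ?_
      rw [← hpz]; nth_rewrite 2 [← hfix]; exact mul_inv_cancel p
  have hkp : m = k * p := by rw [hp, ← mul_assoc, hk2, one_mul]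
  rcases hA2 p hpA hp2 with e | e
  · exact Or.inl (by rw [hkp, e, mul_one])
  · exact Or.inr (by rw [hkp, e])

/-- The square roots of `z` in the centraliser of `l`. -/
theorem K_root {k : G} (hk : k ∈ d.K) (hk2 : k * k = c.z) : k = d.l ∨ k = d.l * c.z := by
  have hcom := (d.mem_K.1 hk).2
  have h1 : k * d.l * (k * d.l) = 1 := by
    rw [show k * d.l * (k * d.l) = k * (d.l * k) * d.l by group, ← hcom,
      show k * (k * d.l) * d.l = k * k * (d.l * d.l) by group, hk2, d.ll, c.zz]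
  rcases d.K_invol (mul_mem hk d.l_memK) h1 with e | e
  · refine Or.inr ?_
    rw [eq_inv_of_mul_eq_one_left e]
    exact inv_eq_of_mul_eq_one_right (by rw [← mul_assoc, d.ll, c.zz])
  · exact Or.inl (mul_right_cancel (e.trans d.ll.symm))

end Quat

end CfsgLib.NoEightConstrained
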