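/-
Involutions of the centraliser of the four-group, and fusion of `z` into it.

Blueprint: `blueprint/S3272.md`, part P4.
-/
import Cfsg.Agent.Lib.NoEightConstrained.Quat.Unique

set_option autoImplicit false
set_option linter.style.haveILetI false

namespace CfsgLib.NoEightConstrained

open Subgroup

variable {G : Type*} [Group G] [Finite G]

namespace Ctx2

variable (c : Ctx2 G)

/-- An element of the normaliser of `T` moves `z` into `U`. -/
def Fused : Prop := ∃ w ∈ normalizer (c.T : Set G), w * c.z * w⁻¹ ∈ c.U ∧ w * c.z * w⁻¹ ≠ c.z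

theorem zT : c.z ∈ c.T := c.U_le_T c.z_mem

theorem T_comm {t v : G} (ht : t ∈ c.T) (hv : v ∈ c.U) : t * v = v * t := (c.mem_T.1 ht).2 v hv

end Ctx2

namespace Quat

variable {c : Ctx2 G} (d : Quat c)

/-- The members of the four-group fix `q` and `l`. -/
theorem U_fix {v : G} (hv : v ∈ c.U) : v * d.q * v⁻¹ = d.q ∧ v * d.l * v⁻¹ = d.l := by
  constructor
  · rw [← c.T_comm d.qT hv, mul_inv_cancel_right]
  · rw [← c.T_comm d.lT hv, mul_inv_cancel_right]

/-- An involution of `T` outside `U` inverts `q` and `l`. -/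
theorem invol_T {e : G} (he : e ∈ c.T) (h2 : e * e = 1) (hU : e ∉ c.U) :
    e * d.q * e⁻¹ = d.q * c.z ∧ e * d.l * e⁻¹ = d.l * c.z := by
  have heS := c.T_le he
  obtain ⟨hq, hl, hT⟩ := d.signs heS
  suffices hqz : e * d.q * e⁻¹ = d.q * c.z from
    ⟨hqz, hl.resolve_left fun h => ne_mul_z (hqz.symm.trans ((hT.1 he).2 h))⟩
  refine hq.resolve_left fun hq' => hU ?_
  have hl' := (hT.1 he).1 hq'
  by_cases hi : d.Inn e
  · obtain ⟨x, hx, m, hm, rfl⟩ := d.decomp heS hi
    have hxq : x * d.q * x⁻¹ = d.q := by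
      rwa [show x * m * d.q * (x * m)⁻¹ = x * (m * d.q * m⁻¹) * x⁻¹ by group, d.L_fix hm d.q_mem] at hq'
    have hml : m * d.l * m⁻¹ = d.l := by
      rw [show x * m * d.l * (x * m)⁻¹ = x * (m * d.l * m⁻¹) * x⁻¹ by group,
        d.X_fix (d.L_normal (d.L_le hm) d.l_memL) hx] at hl'
      exact hl'
    have hmK : m ∈ d.K := d.mem_K.2 ⟨hm, mul_inv_eq_iff_eq_mul.1 hml⟩
    have hxm : x * x * (m * m) = 1 := by
      rw [← h2, show x * m * (x * m) = x * (m * x) * m by group, d.L_comm hm hx]; group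
    have hmm : x * x = (m * m)⁻¹ := eq_inv_of_mul_eq_one_left hxm
    have hqj : d.j * d.q * d.j⁻¹ ≠ d.q := by rw [d.jq]; exact ne_mul_z
    have hxax : x = 1 ∨ x = c.z ∨ x = d.q ∨ x = d.q * c.z := by
      have hzq : c.z * d.q * c.z⁻¹ = d.q := by rw [← zc d.qS, mul_inv_cancel_right]
      have hqqq : d.q * d.q * d.q⁻¹ = d.q := by group
      rcases d.X_cases x hx with h | h | h | h | h | h | h | h
      · exact Or.inl h
      · exact Or.inr (Or.inl h)
      · exact Or.inr (Or.inr (Or.inl h))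
      · exact Or.inr (Or.inr (Or.inr h))
      all_goals exfalso; rw [h] at hxq
      · exact hqj hxq
      · rw [show d.j * c.z * d.q * (d.j * c.z)⁻¹ = d.j * (c.z * d.q * c.z⁻¹) * d.j⁻¹ by group, hzq] at hxq
        exact hqj hxq
      · rw [show d.q * d.j * d.q * (d.q * d.j)⁻¹ = d.q * (d.j * d.q * d.j⁻¹) * d.q⁻¹ by group, d.jq,
          conj_z d.qS, hqqq] at hxq
        exact ne_mul_z hxq
      · rw [show d.q * d.j * c.z * d.q * (d.q * d.j * c.z)⁻¹ =
            d.q * (d.j * (c.z * d.q * c.z⁻¹) * d.j⁻¹) * d.q⁻¹ by group, hzq, d.jq, conj_z d.qS, hqqq] at hxq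
        exact ne_mul_z hxq
    have hqlU : d.q * d.l ∈ c.U := d.u_eq ▸ c.u_mem
    rcases hxax with rfl | rfl | rfl | rfl
    · rw [one_mul, eq_comm, inv_eq_one] at hmm
      rcases d.K_invol hmK hmm with h | h <;> rw [one_mul, h]
      exacts [one_mem _, c.z_mem]
    · rw [c.zz, eq_comm, inv_eq_one] at hmm
      rcases d.K_invol hmK hmm with h | h <;> rw [h]
      exacts [mul_mem c.z_mem (one_mem _), mul_mem c.z_mem c.z_mem]
    · have hm2 : m * m = c.z := by rw [← eq_inv_of_sq c.zz, ← d.qq, hmm, inv_inv]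
      rcases d.K_root hmK hm2 with h | h <;> rw [h]
      · exact hqlU
      · rw [← mul_assoc]; exact mul_mem hqlU c.z_mem
    · have hm2 : m * m = c.z := by
        rw [← eq_inv_of_sq c.zz, ← inv_inv (m * m), ← hmm, mul_assoc d.q, ← mul_assoc c.z, ← zc d.qS,
          zz_cancel, d.qq]
      rw [mul_assoc d.q, ← zc (d.L_le hm)]
      rcases d.K_root hmK hm2 with h | h <;> rw [h]
      · rw [← mul_assoc]; exact mul_mem hqlU c.z_mem
      · rw [zz_cancel]; exact hqlU
  · exact absurd ((d.invol_outer heS hi h2).symm.trans hq') ne_mul_z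

include d in
/-- An involution central in `T` lies in `U`. -/
theorem center_invol {e : G} (he : e ∈ c.T) (h2 : e * e = 1) (hc : ∀ t ∈ c.T, t * e = e * t) : e ∈ c.U := by
  by_contra hU
  have h := (d.invol_T he h2 hU).2
  rw [← hc d.l d.lT, mul_inv_cancel_right] at h
  exact ne_mul_z h.symm

include d in
/-- Two commuting involutions of `T` outside `U` differ by a member of `U`. -/
theorem pair_mem {e f : G} (he : e ∈ c.T) (he2 : e * e = 1) (heU : e ∉ c.U) (hf : f ∈ c.T) (hf2 : f * f = 1)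
    (hfU : f ∉ c.U) (hef : e * f = f * e) : f * e ∈ c.U := by
  by_contra hU
  have h2 := sq_mul_of_comm hf2 he2 hef.symm
  have h := (d.invol_T (mul_mem hf he) h2 hU).1
  rw [show f * e * d.q * (f * e)⁻¹ = f * (e * d.q * e⁻¹) * f⁻¹ by group, (d.invol_T he he2 heU).1,
    conj_z (c.T_le hf), (d.invol_T hf hf2 hfU).1, zz_cancel] at h
  exact ne_mul_z h.symm

include d in
/-- There is no elementary subgroup of order 16 between `U` and `T`. -/
theorem sixteen_false {H : Subgroup G} : ¬ c.HasSixteen H := by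
  classical
  rintro ⟨V, hVT, hUV, -, hV2, hV16⟩
  have hne : ¬ V ≤ c.U := fun h => by
    have := card_le_of_le h
    rw [hV16, c.U_card] at this
    omega
  obtain ⟨e, heV, heU⟩ := SetLike.not_le_iff_exists.1 hne
  let f : ↥V → ↥c.U × Bool := fun x =>
    if h : (x : G) ∈ c.U then (⟨x, h⟩, false)
    else (⟨x * e, d.pair_mem (hVT heV) (hV2 e heV) heU (hVT x.2) (hV2 x x.2) h (comm_of_sq hV2 heV x.2)⟩, true)
  have hf : Function.Injective f := by
    intro x y hxy
    simp only [f] at hxy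
    split_ifs at hxy with hx hy hy
    · exact Subtype.ext (congrArg (fun p : ↥c.U × Bool => (p.1 : G)) hxy)
    · exact absurd (congrArg Prod.snd hxy) (by simp)
    · exact absurd (congrArg Prod.snd hxy) (by simp)
    · exact Subtype.ext (mul_right_cancel (congrArg (fun p : ↥c.U × Bool => (p.1 : G)) hxy))
  have := Nat.card_le_card_of_injective f hf
  rw [hV16, Nat.card_prod, c.U_card, Nat.card_eq_fintype_card, Fintype.card_bool] at this
  omega

include d in
/-- A conjugate of `z` in `U` gives a fusion in the normaliser of `T`. -/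
theorem fused_of_conj {g : G} (h : g * c.z * g⁻¹ ∈ c.U) (hne : g * c.z * g⁻¹ ≠ c.z) : c.Fused := by
  classical
  haveI := Fact.mk Nat.prime_two
  set v := g * c.z * g⁻¹ with hv
  set C := centralizer ({v} : Set G) with hC
  have hTC : c.T ≤ C := fun t ht => mem_centralizer_singleton_iff.2 (c.T_comm ht h)
  have hPC : ((g • c.S : Sylow 2 G) : Subgroup G) ≤ C := by
    rintro _ ⟨s, hs, rfl⟩
    refine mem_centralizer_singleton_iff.2 ?_
    show g * s * g⁻¹ * v = v * (g * s * g⁻¹)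
    rw [hv, show g * s * g⁻¹ * (g * c.z * g⁻¹) = g * (s * c.z) * g⁻¹ by group, c.z_central s hs]
    group
  obtain ⟨Q, hQ⟩ := IsPGroup.exists_le_sylow
    ((c.S.2.to_le c.T_le).of_equiv (subgroupOfEquivOfLe hTC).symm : IsPGroup 2 ↥(c.T.subgroupOf C))
  obtain ⟨h', hh'⟩ := MulAction.exists_smul_eq ↥C ((g • c.S : Sylow 2 G).subtype hPC) Q
  set k := (h' : G) * g with hk
  have hkz : k * c.z * k⁻¹ = v := by
    rw [hk, show (h' : G) * g * c.z * ((h' : G) * g)⁻¹ = h' * (g * c.z * g⁻¹) * (h' : G)⁻¹ by group, ← hv,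
      mem_centralizer_singleton_iff.1 h'.2, mul_inv_cancel_right]
  have hback : ∀ t ∈ c.T, k⁻¹ * t * k ∈ (c.S : Subgroup G) := by
    intro t ht
    have hmem : (⟨t, hTC ht⟩ : ↥C) ∈ (Q : Subgroup ↥C) := hQ ht
    rw [← hh'] at hmem
    obtain ⟨y, hy, e⟩ := hmem
    have hy' : (y : G) ∈ ((g • c.S : Sylow 2 G) : Subgroup G) := hy
    obtain ⟨s, hs, e'⟩ := hy'
    have e1 : t = (h' : G) * y * (h' : G)⁻¹ := (congrArg Subtype.val e).symm
    have e2 : (y : G) = g * s * g⁻¹ := e'.symm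
    suffices hh : k⁻¹ * t * k = s from hh ▸ hs
    rw [e1, e2, hk]
    group
  -- the preimage has index two
  set T' := c.T.map (MulAut.conj k⁻¹).toMonoidHom with hT'
  have hT'S : T' ≤ (c.S : Subgroup G) := by
    rintro _ ⟨t, ht, rfl⟩
    show k⁻¹ * t * k⁻¹⁻¹ ∈ _
    rw [inv_inv]
    exact hback t ht
  have hi : T'.relIndex (c.S : Subgroup G) = 2 := by
    have hcard : Nat.card ↥T' = Nat.card ↥c.T := card_map_of_injective (MulAut.conj k⁻¹).injective
    have h1 := (c.T.subgroupOf (c.S : Subgroup G)).card_mul_index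
    have h2 := (T'.subgroupOf (c.S : Subgroup G)).card_mul_index
    rw [Nat.card_congr (subgroupOfEquivOfLe c.T_le).toEquiv, ← relIndex, c.T_index] at h1
    rw [Nat.card_congr (subgroupOfEquivOfLe hT'S).toEquiv, hcard, ← relIndex, ← h1] at h2
    exact Nat.eq_of_mul_eq_mul_left Nat.card_pos h2
  have hnorm : ∀ s ∈ (c.S : Subgroup G), k * s * k⁻¹ ∈ normalizer (c.T : Set G) := by
    have hone : ∀ s ∈ (c.S : Subgroup G), ∀ t ∈ c.T, k * s * k⁻¹ * t * (k * s * k⁻¹)⁻¹ ∈ c.T := by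
      intro s hs t ht
      have hm : k⁻¹ * t * k ∈ T' := ⟨t, ht, by show k⁻¹ * t * k⁻¹⁻¹ = _; rw [inv_inv]⟩
      obtain ⟨t', ht', e⟩ := (normal_of_index_eq_two hi).conj_mem ⟨_, hT'S hm⟩ hm ⟨s, hs⟩
      have e' : k⁻¹ * t' * k⁻¹⁻¹ = s * (k⁻¹ * t * k) * s⁻¹ := e
      rw [inv_inv] at e'
      suffices hh : k * s * k⁻¹ * t * (k * s * k⁻¹)⁻¹ = t' from hh ▸ ht'
      calc k * s * k⁻¹ * t * (k * s * k⁻¹)⁻¹ = k * (s * (k⁻¹ * t * k) * s⁻¹) * k⁻¹ := by group
        _ = t' := by rw [← e']; group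
    intro s hs
    refine mem_normalizer_iff.2 fun t => ⟨hone s hs t, fun ht => ?_⟩
    have := hone _ (inv_mem hs) _ ht
    convert this using 1
    group
  obtain ⟨s, hs, hsz⟩ : ∃ s ∈ (c.S : Subgroup G), k * s * k⁻¹ * c.z ≠ c.z * (k * s * k⁻¹) := by
    by_contra hall
    push Not at hall
    have h1 : k⁻¹ * c.z * k = c.z := c.central_involution (hback _ c.zT)
      (by rw [show k⁻¹ * c.z * k * (k⁻¹ * c.z * k) = k⁻¹ * (c.z * c.z) * k by group, c.zz]; group)
      (fun e => c.z_ne (by rw [show c.z = k * (k⁻¹ * c.z * k) * k⁻¹ by group, e]; group))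
      fun s hs => by
        calc s * (k⁻¹ * c.z * k) = k⁻¹ * (k * s * k⁻¹ * c.z) * k := by group
          _ = k⁻¹ * c.z * k * s := by rw [hall s hs]; group
    refine hne ?_
    rw [← hkz]
    nth_rewrite 1 [← h1]
    group
  refine ⟨_, hnorm s hs, ?_, fun e => hsz (mul_inv_eq_iff_eq_mul.1 e)⟩
  have hwN := hnorm s hs
  generalize k * s * k⁻¹ = w at hwN ⊢
  refine d.center_invol ((mem_normalizer_iff.1 hwN _).1 c.zT) ?_ fun t ht => ?_
  · rw [show w * c.z * w⁻¹ * (w * c.z * w⁻¹) = w * (c.z * c.z) * w⁻¹ by group, c.zz]; group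
  · have ht' : w⁻¹ * t * w ∈ c.T := by simpa using (mem_normalizer_iff.1 (inv_mem hwN) t).1 ht
    calc t * (w * c.z * w⁻¹) = w * (w⁻¹ * t * w * c.z) * w⁻¹ := by group
      _ = w * c.z * w⁻¹ * t := by rw [c.z_central _ (c.T_le ht')]; group

end Quat

end CfsgLib.NoEightConstrained
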