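/-
The constrained core of the centraliser of an involution of the four-group outside the centre.

Blueprint: `blueprint/S3272.md`, part P4.
-/
import Cfsg.Agent.Lib.NoEightConstrained.Quat.Invol
import Cfsg.Agent.Lib.NoEightConstrained.Radical

set_option autoImplicit false
set_option linter.style.haveILetI false

namespace CfsgLib.NoEightConstrained

open Subgroup

variable {G : Type*} [Group G] [Finite G]

/-- The core of a constrained centraliser, read in one of its Sylow subgroups. -/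
theorem core_of_constrained {t : G} {C : Subgroup G} (hC : C = centralizer ({t} : Set G)) (P : Sylow 2 ↥C)
    (hcons : Cfsg.IsPConstrained 2 ↥C) :
    ∃ Q : Subgroup G, Q ≤ (P : Subgroup ↥C).map C.subtype ∧
      (∀ s ∈ (P : Subgroup ↥C).map C.subtype,
        ∀ x ∈ Q, s * x * s⁻¹ ∈ Q) ∧
      (∀ x ∈ (P : Subgroup ↥C).map C.subtype,
        (∀ y ∈ Q, y * x = x * y) → x ∈ Q) ∧
      ∀ g : G, g * t = t * g → ∃ o n : G, g = o * n ∧ n ∈ normalizer (Q : Set G) ∧ n * t = t * n ∧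
        ∀ x ∈ (P : Subgroup ↥C).map C.subtype,
          o * x * o⁻¹ ∈ (P : Subgroup ↥C).map C.subtype →
            o * x * o⁻¹ = x := by
  haveI := Fact.mk Nat.prime_two
  set L := Cfsg.pPrimePCore 2 ↥C with hL
  set O := Cfsg.pPrimeCore 2 ↥C with hO
  haveI hLn : L.Normal := by rw [hL, Cfsg.pPrimePCore]; exact Subgroup.Normal.comap inferInstance _
  haveI hOn : O.Normal := by rw [hO]; exact Cfsg.pPrimeCore_normal 2 _
  set Q' : Subgroup ↥C := (P : Subgroup ↥C) ⊓ L with hQ'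
  obtain ⟨R, hR⟩ := CfsgLib.PLocal.exists_sylow_inf P L
  rw [← hQ'] at hR
  have hLO : ∀ x ∈ L, ∃ o ∈ O, ∃ p ∈ Q', x = o * p := by
    intro x hx
    have hx' := PairSol.pPrimePCore_le_sup P hx
    rw [← SetLike.mem_coe, Subgroup.normal_mul] at hx'
    obtain ⟨o, ho, p, hp', e⟩ := hx'
    refine ⟨o, ho, p, ⟨hp', ?_⟩, e.symm⟩
    rw [show p = o⁻¹ * x by rw [← e]; group]
    exact Subgroup.mul_mem _ (Subgroup.inv_mem _ (PairSol.core_le_pPrimePCore ho)) hx
  refine ⟨Q'.map C.subtype, map_mono (show Q' ≤ (P : Subgroup ↥C) from fun x hx => hx.1), ?_, ?_, ?_⟩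
  · rintro _ ⟨s, hs, rfl⟩ _ ⟨x, hx, rfl⟩
    exact ⟨s * x * s⁻¹, ⟨Subgroup.mul_mem _ (Subgroup.mul_mem _ hs hx.1) (Subgroup.inv_mem _ hs),
      Subgroup.Normal.conj_mem inferInstance x hx.2 _⟩, rfl⟩
  · rintro _ ⟨x, hx, rfl⟩ hcx
    refine ⟨x, ⟨hx, hcons R ?_⟩, rfl⟩
    rw [hR]
    exact mem_centralizer_iff.2 fun y hy => Subtype.ext (hcx _ ⟨y, hy, rfl⟩)
  · intro g hg
    have htop := Sylow.normalizer_sup_eq_top R
    rw [hR] at htop
    have hg' : (⟨g, hC ▸ mem_centralizer_singleton_iff.2 hg⟩ : ↥C) ∈ normalizer (Q' : Set ↥C) ⊔ L := htop ▸ mem_top _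
    rw [← SetLike.mem_coe, Subgroup.mul_normal] at hg'
    obtain ⟨n₀, hn₀, l, hl, e⟩ := hg'
    obtain ⟨o, ho, p, hp', rfl⟩ := hLO l hl
    refine ⟨((n₀ * o * n₀⁻¹ : ↥C) : G), ((n₀ * p : ↥C) : G), ?_, ?_, ?_, ?_⟩
    · rw [← coe_mul]
      refine (congrArg (Subtype.val : ↥C → G) e.symm).trans (congrArg Subtype.val ?_)
      group
    · exact le_normalizer_map C.subtype (mem_map_of_mem C.subtype (mul_mem hn₀ (le_normalizer hp')))
    · exact mem_centralizer_singleton_iff.1 (hC ▸ (n₀ * p : ↥C).2)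
    · rintro _ ⟨x, hx, rfl⟩ hox
      set o' : ↥C := n₀ * o * n₀⁻¹ with ho'
      have ho'O : o' ∈ O := hOn.conj_mem o ho n₀
      have hd : o' * x * o'⁻¹ * x⁻¹ ∈ O := by
        rw [show o' * x * o'⁻¹ * x⁻¹ = o' * (x * o'⁻¹ * x⁻¹) by group]
        exact mul_mem ho'O (hOn.conj_mem _ (inv_mem ho'O) _)
      have hox' : o' * x * o'⁻¹ ∈ (P : Subgroup ↥C) := by
        obtain ⟨y, hy, ey⟩ := hox
        have he : y = o' * x * o'⁻¹ := Subtype.ext ey
        exact he ▸ hy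
      obtain ⟨k, hk⟩ := P.2 ⟨_, Subgroup.mul_mem _ hox' (Subgroup.inv_mem _ hx)⟩
      have hk' : (o' * x * o'⁻¹ * x⁻¹) ^ 2 ^ k = 1 := congrArg Subtype.val hk
      have hcop : (Nat.card ↥O).Coprime 2 := CfsgLib.card_pPrimeCore_coprime 2
      have h1 := pow_gcd_eq_one.2 ⟨hk', (show (o' * x * o'⁻¹ * x⁻¹) ^ Nat.card ↥O = 1 from
        congrArg Subtype.val (pow_card_eq_one' (x := (⟨_, hd⟩ : ↥O))))⟩
      rw [(Nat.Coprime.pow_left k hcop.symm).gcd_eq_one, pow_one] at h1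
      exact congrArg Subtype.val (mul_inv_eq_one.1 h1)

namespace Quat

variable {c : Ctx2 G} (d : Quat c)

include d in
/-- The core of the centraliser of an unfused involution of the four-group. -/
theorem exists_core {v : G} (hv : v ∈ c.U) (hv1 : v ≠ 1) (hvz : v ≠ c.z) (hnf : ¬ c.Fused) :
    ∃ Q : Subgroup G, Q ≤ c.T ∧ (∀ s ∈ c.T, ∀ x ∈ Q, s * x * s⁻¹ ∈ Q) ∧
      (∀ x ∈ c.T, (∀ y ∈ Q, y * x = x * y) → x ∈ Q) ∧
      ∀ g : G, g * v = v * g → ∃ o n : G, g = o * n ∧ n ∈ normalizer (Q : Set G) ∧ n * v = v * n ∧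
        ∀ x ∈ c.T, o * x * o⁻¹ ∈ c.T → o * x * o⁻¹ = x := by
  classical
  haveI := Fact.mk Nat.prime_two
  set C := centralizer ({v} : Set G) with hC
  have hTC : c.T ≤ C := fun t ht => mem_centralizer_singleton_iff.2 (c.T_comm ht hv)
  obtain ⟨P, hP⟩ := IsPGroup.exists_le_sylow
    ((c.S.2.to_le c.T_le).of_equiv (subgroupOfEquivOfLe hTC).symm : IsPGroup 2 ↥(c.T.subgroupOf C))
  -- `T` is a Sylow subgroup of the centraliser
  have hPT : (P : Subgroup ↥C).map C.subtype = c.T := by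
    refine le_antisymm ?_ fun t ht => ⟨⟨t, hTC ht⟩, hP ht, rfl⟩
    by_contra hle
    obtain ⟨B, hB⟩ := IsPGroup.exists_le_sylow (P.2.map C.subtype)
    have hTP : c.T ≤ (P : Subgroup ↥C).map C.subtype := fun t ht => ⟨⟨t, hTC ht⟩, hP ht, rfl⟩
    have hBC : ((B : Subgroup G)) ≤ C := by
      refine le_of_eq_of_le (eq_of_le_of_card_ge hB ?_).symm (map_subtype_le _)
      have h1 := (c.T.subgroupOf (c.S : Subgroup G)).card_mul_index
      rw [Nat.card_congr (subgroupOfEquivOfLe c.T_le).toEquiv, ← relIndex, c.T_index] at h1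
      have h2 := (c.T.subgroupOf ((P : Subgroup ↥C).map C.subtype)).card_mul_index
      rw [Nat.card_congr (subgroupOfEquivOfLe hTP).toEquiv] at h2
      have hne : (c.T.subgroupOf ((P : Subgroup ↥C).map C.subtype)).index ≠ 1 := fun e =>
        hle (subgroupOf_eq_top.1 (index_eq_one.1 e))
      have hne0 : (c.T.subgroupOf ((P : Subgroup ↥C).map C.subtype)).index ≠ 0 := index_ne_zero_of_finite
      rw [show Nat.card ↥(B : Subgroup G) = Nat.card ↥(c.S : Subgroup G) by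
          rw [B.card_eq_multiplicity, c.S.card_eq_multiplicity],
        ← h1, ← h2]
      exact Nat.mul_le_mul_left _ (by omega)
    obtain ⟨g, hg⟩ := MulAction.exists_smul_eq G c.S B
    have hmem : ∀ s ∈ (c.S : Subgroup G), g * s * g⁻¹ ∈ (B : Subgroup G) := fun s hs => by
      rw [← hg]; exact ⟨s, hs, rfl⟩
    have hvS : g⁻¹ * v * g ∈ (c.S : Subgroup G) := by
      have hvB : v ∈ (B : Subgroup G) := hB (hTP (c.U_le_T hv))
      rw [← hg] at hvB
      obtain ⟨s, hs, e⟩ := hvB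
      have e' : g * s * g⁻¹ = v := e
      rw [← e', show g⁻¹ * (g * s * g⁻¹) * g = s by group]
      exact hs
    have hz : g⁻¹ * v * g = c.z := c.central_involution hvS
      (by rw [show g⁻¹ * v * g * (g⁻¹ * v * g) = g⁻¹ * (v * v) * g by group, c.U_sq v hv]; group)
      (fun e => hv1 (by rw [show v = g * (g⁻¹ * v * g) * g⁻¹ by group, e]; group))
      fun s hs => by
        calc s * (g⁻¹ * v * g) = g⁻¹ * (g * s * g⁻¹ * v) * g := by group
          _ = g⁻¹ * v * g * s := by rw [mem_centralizer_singleton_iff.1 (hBC (hmem s hs))]; group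
    have hgz : g * c.z * g⁻¹ = v := by rw [← hz]; group
    exact hnf (d.fused_of_conj (g := g) (hgz.symm ▸ hv) (hgz.symm ▸ hvz))
  have hcons : Cfsg.IsPConstrained 2 ↥C := by
    refine c.cons v (c.U_le hv) (orderOf_eq_prime (by rw [pow_two]; exact c.U_sq v hv) hv1) ?_
    have hle : c.T ≤ C ⊓ (c.S : Subgroup G) := le_inf hTC c.T_le
    exact (Nat.le_of_dvd (Nat.pos_of_ne_zero (by rw [c.T_index]; norm_num))
      (relIndex_dvd_of_le_left (c.S : Subgroup G) hle)).trans c.T_index.le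
  obtain ⟨Q, h1, h2, h3, h4⟩ := core_of_constrained hC P hcons
  rw [hPT] at h1 h2 h3 h4
  exact ⟨Q, h1, h2, h3, h4⟩

end Quat

end CfsgLib.NoEightConstrained
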