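/-
The steps moving `z`.

Blueprint: `blueprint/S3272.md`, part P4.
-/
import Cfsg.Agent.Lib.NoEightConstrained.Quat.Invol
import Cfsg.Agent.Lib.KleinCent.Sylow

set_option autoImplicit false
set_option linter.style.haveILetI false

namespace CfsgLib.NoEightConstrained

open Subgroup

variable {G : Type*} [Group G] [Finite G]

namespace Ctx2

variable (c : Ctx2 G)

/-- A step moving `z` inside `T`. -/
structure Moving (H : Subgroup G) (n : G) : Prop where
  le_T : H ≤ c.T
  norm : n ∈ normalizer (H : Set G)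
  centric : (c.S : Subgroup G) ⊓ centralizer (H : Set G) ≤ H
  moves : n * c.z * n⁻¹ ≠ c.z

/-- A fusion centralising `z` moves inside a subgroup over `R` containing the commutators. -/
theorem move_mem_of {M : Subgroup G} (hR : c.R ≤ M)
    (hM : ∀ r ∈ (c.S : Subgroup G), ∀ s ∈ (c.S : Subgroup G), r * s * r⁻¹ * s⁻¹ ∈ M)
    {g x : G} (hg : g * c.z = c.z * g) (hx : x ∈ (c.S : Subgroup G))
    (hgx : g * x * g⁻¹ ∈ (c.S : Subgroup G)) : g * x * g⁻¹ * x⁻¹ ∈ M := by
  haveI := Fact.mk Nat.prime_two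
  set C := centralizer ({c.z} : Set G) with hC
  have hSC : (c.S : Subgroup G) ≤ C := fun s hs => mem_centralizer_singleton_iff.2 (c.z_central s hs)
  haveI := PResidual.pResidual_normal (p := 2) (G := ↥C)
  have htop := PResidual.pResidual_sup_sylow (c.S.subtype hSC)
  have hm : (⟨g, mem_centralizer_singleton_iff.2 hg⟩ : ↥C) ∈
      ((c.S.subtype hSC : Sylow 2 ↥C) : Subgroup ↥C) ⊔ Cfsg.pResidual 2 ↥C := htop ▸ mem_top _
  rw [← SetLike.mem_coe, Subgroup.mul_normal] at hm
  obtain ⟨σ, hσ, r, hr, e⟩ := hm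
  have hσS : (σ : G) ∈ (c.S : Subgroup G) := hσ
  have e' : g = (σ : G) * (r : G) := (congrArg Subtype.val e).symm
  have hrx : (r : G) * x * (r : G)⁻¹ ∈ (c.S : Subgroup G) := by
    have h1 := mul_mem (mul_mem (inv_mem hσS) hgx) hσS
    rwa [e', show (σ : G)⁻¹ * ((σ : G) * r * x * ((σ : G) * r)⁻¹) * σ = r * x * (r : G)⁻¹ by group] at h1
  have hR' : (r : G) * x * (r : G)⁻¹ * x⁻¹ ∈ c.R := by
    refine ⟨Subgroup.mul_mem _ hrx (Subgroup.inv_mem _ hx),
      r * (⟨x, hSC hx⟩ * r⁻¹ * ⟨x, hSC hx⟩⁻¹), mul_mem hr ?_, ?_⟩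
    · exact Subgroup.Normal.conj_mem inferInstance _ (inv_mem hr) _
    · show (r : G) * (x * (r : G)⁻¹ * x⁻¹) = _
      group
  rw [show g * x * g⁻¹ * x⁻¹ =
      σ * ((r : G) * x * (r : G)⁻¹ * x⁻¹) * (σ : G)⁻¹ * ((σ : G) * x * (σ : G)⁻¹ * x⁻¹) by rw [e']; group]
  exact mul_mem (hR (c.R_normal hσS hR')) (hM _ hσS _ hx)

end Ctx2

namespace Ctx2.Moving

variable {c : Ctx2 G} {H : Subgroup G} {n : G}

theorem le_S (h : c.Moving H n) : H ≤ (c.S : Subgroup G) := h.le_T.trans c.T_le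

theorem U_le (h : c.Moving H n) : c.U ≤ H := fun v hv =>
  h.centric ⟨c.U_le hv, mem_centralizer_iff.2 fun _ hx => c.T_comm (h.le_T hx) hv⟩

theorem image_mem (h : c.Moving H n) : n * c.z * n⁻¹ ∈ H :=
  (mem_normalizer_iff.1 h.norm _).1 (h.U_le c.z_mem)

theorem image_comm (h : c.Moving H n) {x : G} (hx : x ∈ H) :
    x * (n * c.z * n⁻¹) = n * c.z * n⁻¹ * x := by
  have hy : n⁻¹ * x * n ∈ H := by simpa using (mem_normalizer_iff.1 (inv_mem h.norm) x).1 hx
  calc x * (n * c.z * n⁻¹) = n * (n⁻¹ * x * n * c.z) * n⁻¹ := by group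
    _ = n * c.z * n⁻¹ * x := by rw [c.z_central _ (h.le_S hy)]; group

theorem image_sq (_h : c.Moving H n) : n * c.z * n⁻¹ * (n * c.z * n⁻¹) = 1 := by
  rw [show n * c.z * n⁻¹ * (n * c.z * n⁻¹) = n * (c.z * c.z) * n⁻¹ by group, c.zz]; group

end Ctx2.Moving

namespace Quat

variable {c : Ctx2 G} (d : Quat c)

include d in
/-- A step moving `z` and not centralising its subgroup is inside `T`. -/
theorem moving_of {H : Subgroup G} {n : G} (h : c.Step H n) (hnz : n * c.z * n⁻¹ ≠ c.z)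
    (hnc : n ∉ centralizer (H : Set G)) : c.Moving H n := by
  rcases c.step_cases h hnz with h' | ⟨hn, -, hc, h' | ⟨h16, -, -⟩⟩
  · exact absurd h' hnc
  · exact ⟨h', hn, hc, hnz⟩
  · exact absurd h16 d.sixteen_false

include d in
/-- Subgroups of index two over `X` do not contain the moves of all steps moving `z`. -/
theorem false_of_moving {M : Subgroup G} (hM : M ≤ (c.S : Subgroup G)) (h2 : M.relIndex (c.S : Subgroup G) = 2)
    (hX : d.X ≤ M) (h : ∀ H n, c.Moving H n → ∀ x ∈ H, n * x * n⁻¹ * x⁻¹ ∈ M) : False := by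
  have hcomm : ∀ r ∈ (c.S : Subgroup G), ∀ s ∈ (c.S : Subgroup G), r * s * r⁻¹ * s⁻¹ ∈ M := by
    intro r hr s hs
    have key : (⟨r, hr⟩ * ⟨s, hs⟩ * ⟨r, hr⟩⁻¹ * ⟨s, hs⟩⁻¹ : ↥(c.S : Subgroup G)) ∈
        M.subgroupOf (c.S : Subgroup G) := by
      simp only [mul_mem_iff_of_index_two h2, inv_mem_iff]
      tauto
    exact key
  refine c.false_of_steps hM h2 fun H n hs x hxH hx hnx => ?_
  by_cases hnz : n * c.z * n⁻¹ = c.z
  · exact c.move_mem_of (d.R_le.trans hX) hcomm (mul_inv_eq_iff_eq_mul.1 hnz) hx hnx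
  by_cases hnc : n ∈ centralizer (H : Set G)
  · rw [← mem_centralizer_iff.1 hnc x hxH, mul_inv_cancel_right, mul_inv_cancel]
    exact one_mem _
  exact h H n (d.moving_of hs hnz hnc) x hxH

include d in
/-- A step moving `z` occurs. -/
theorem exists_moving : ∃ (H : Subgroup G) (n : G), c.Moving H n := by
  classical
  by_contra hno
  push Not at hno
  have hne : d.X.subgroupOf (c.S : Subgroup G) ≠ ⊤ := by
    intro e
    refine c.rank3 fun A _ hA2 => ?_
    have hA : ∀ a : ↥A, ((a : ↥(c.S : Subgroup G)) : G) = 1 ∨ ((a : ↥(c.S : Subgroup G)) : G) = c.z := by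
      intro a
      have hsq : (a : ↥(c.S : Subgroup G)) * a = 1 := by rw [← pow_two]; exact hA2 _ a.2
      exact d.X_sq _ (mem_subgroupOf.1 (e ▸ mem_top (a : ↥(c.S : Subgroup G)))) (congrArg Subtype.val hsq)
    let f : ↥A → Bool := fun a => decide (((a : ↥(c.S : Subgroup G)) : G) = 1)
    have hf : Function.Injective f := by
      intro a b hab
      refine Subtype.ext (Subtype.ext ?_)
      have hiff : ((a : ↥(c.S : Subgroup G)) : G) = 1 ↔ ((b : ↥(c.S : Subgroup G)) : G) = 1 := by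
        simpa [f] using hab
      rcases hA a with h1 | h1 <;> rcases hA b with h2 | h2
      · rw [h1, h2]
      · exact absurd (h2.symm.trans (hiff.1 h1)) c.z_ne
      · exact absurd (h1.symm.trans (hiff.2 h2)) c.z_ne
      · rw [h1, h2]
    refine (Nat.card_le_card_of_injective f hf).trans ?_
    rw [Nat.card_eq_fintype_card, Fintype.card_bool]
    norm_num
  obtain ⟨M, -, hMi, hXM⟩ := CfsgLib.KleinCent.exists_normal_index_two c.S.2 hne
  refine d.false_of_moving (M := M.map (c.S : Subgroup G).subtype) (map_subtype_le _) ?_ ?_ fun H n h =>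
    absurd h (hno H n)
  · have hMM : (M.map (c.S : Subgroup G).subtype).subgroupOf (c.S : Subgroup G) = M :=
      comap_map_eq_self_of_injective (c.S : Subgroup G).subtype_injective M
    rw [relIndex, hMM]
    exact hMi
  · intro x hx
    exact ⟨⟨x, d.X_le hx⟩, hXM hx, rfl⟩

end Quat

end CfsgLib.NoEightConstrained
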