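/-
Without fusion of `z` into the four-group an involution of `T` is normalised modulo the four-group.

Blueprint: `blueprint/S3272.md`, part P4.
-/
import Cfsg.Agent.Lib.NoEightConstrained.Quat.Moving
import Cfsg.Agent.Lib.NoEightConstrained.Quat.Core

set_option autoImplicit false
set_option linter.style.haveILetI false

namespace CfsgLib.NoEightConstrained

open Subgroup

variable {G : Type*} [Group G] [Finite G]

namespace Quat

variable {c : Ctx2 G} (d : Quat c)

/-- An element of `C_L(l)` commuting with an involution of `T` outside `U` is `1` or `z`. -/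
theorem fixed_K {e m : G} (he : e ∈ c.T) (he2 : e * e = 1) (heU : e ∉ c.U) (hm : m ∈ d.K)
    (hem : e * m = m * e) : m = 1 ∨ m = c.z := by
  refine d.K_invol hm ?_
  by_contra hmm
  obtain ⟨i, hi1, hi4⟩ := c.exists_pow_four (d.L_le (d.K_le hm)) hmm
  have hmi : m ^ i ∈ d.K := pow_mem hm i
  have hz : m ^ i * m ^ i = c.z := (d.K_invol (mul_mem hmi hmi) hi4).resolve_left hi1
  have hfix : e * m ^ i * e⁻¹ = m ^ i := by rw [← conj_pow, hem, mul_inv_cancel_right]
  have hl := (d.invol_T he he2 heU).2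
  rcases d.K_root hmi hz with h | h <;> rw [h] at hfix
  · rw [hl] at hfix
    exact ne_mul_z hfix
  · rw [conj_z (c.T_le he), hl] at hfix
    exact ne_mul_z hfix

/-- Elements acting as inner automorphisms that commute with an involution of `T` outside `U` and fix `q`. -/
theorem cent_inner {e h : G} (he : e ∈ c.T) (he2 : e * e = 1) (heU : e ∉ c.U) (hh : h ∈ c.T)
    (heh : e * h = h * e) (hq : h * d.q * h⁻¹ = d.q) (hi : d.Inn h) : h ∈ c.U := by
  have hhS := c.T_le hh
  have hl : h * d.l * h⁻¹ = d.l := ((d.mem_T hhS).1 hh).1 hq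
  obtain ⟨x, hx, m, hm, rfl⟩ := d.decomp hhS hi
  have hxq : x * d.q * x⁻¹ = d.q := by
    rwa [show x * m * d.q * (x * m)⁻¹ = x * (m * d.q * m⁻¹) * x⁻¹ by group, d.L_fix hm d.q_mem] at hq
  have hml : m * d.l * m⁻¹ = d.l := by
    rwa [show x * m * d.l * (x * m)⁻¹ = x * (m * d.l * m⁻¹) * x⁻¹ by group,
      d.X_fix (d.L_normal (d.L_le hm) d.l_memL) hx] at hl
  have hmK : m ∈ d.K := d.mem_K.2 ⟨hm, mul_inv_eq_iff_eq_mul.1 hml⟩
  have hprod : e * x * e⁻¹ * (e * m * e⁻¹) = x * m := by rw [conj_mul, heh, mul_inv_cancel_right]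
  have hqlU : d.q * d.l ∈ c.U := d.u_eq ▸ c.u_mem
  have heq := (d.invol_T he he2 heU).1
  have hez : e * c.z * e⁻¹ = c.z := by rw [zc (c.T_le he), mul_inv_cancel_right]
  have hK' : e * m * e⁻¹ ∈ d.K := d.K_normal (c.T_le he) hmK
  -- the part in `X` is on the axis
  have hxax : x = 1 ∨ x = c.z ∨ x = d.q ∨ x = d.q * c.z := by
    have hzq : c.z * d.q * c.z⁻¹ = d.q := by rw [← zc d.qS, mul_inv_cancel_right]
    have hqqq : d.q * d.q * d.q⁻¹ = d.q := by group
    rcases d.X_cases x hx with h | h | h | h | h | h | h | h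
    · exact Or.inl h
    · exact Or.inr (Or.inl h)
    · exact Or.inr (Or.inr (Or.inl h))
    · exact Or.inr (Or.inr (Or.inr h))
    all_goals exfalso; rw [h] at hxq
    · rw [d.jq] at hxq
      exact ne_mul_z hxq
    · rw [show d.j * c.z * d.q * (d.j * c.z)⁻¹ = d.j * (c.z * d.q * c.z⁻¹) * d.j⁻¹ by group, hzq, d.jq] at hxq
      exact ne_mul_z hxq
    · rw [show d.q * d.j * d.q * (d.q * d.j)⁻¹ = d.q * (d.j * d.q * d.j⁻¹) * d.q⁻¹ by group, d.jq,
        conj_z d.qS, hqqq] at hxq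
      exact ne_mul_z hxq
    · rw [show d.q * d.j * c.z * d.q * (d.q * d.j * c.z)⁻¹ =
          d.q * (d.j * (c.z * d.q * c.z⁻¹) * d.j⁻¹) * d.q⁻¹ by group, hzq, d.jq, conj_z d.qS, hqqq] at hxq
      exact ne_mul_z hxq
  have hcentral : e * x * e⁻¹ = x → x * m ∈ c.U := fun hex => by
    rw [hex] at hprod
    have hmm := d.fixed_K he he2 heU hmK (mul_inv_eq_iff_eq_mul.1 (mul_left_cancel hprod))
    rcases hxax with h | h | h | h
    iterate 2
      rcases hmm with h' | h' <;> rw [h, h'] <;>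
        simp only [one_mul, mul_one, c.zz, c.U.one_mem, c.z_mem]
    · rw [h, heq] at hex
      exact absurd hex ne_mul_z
    · rw [h, conj_z (c.T_le he), heq] at hex
      exact absurd hex ne_mul_z
  have houter : e * x * e⁻¹ = x * c.z → x = d.q ∨ x = d.q * c.z → x * m ∈ c.U := fun hex hx' => by
    have hem : e * m * e⁻¹ = m * c.z := by
      rw [hex, mul_assoc x c.z, ← zc (d.L_le (d.K_le hK'))] at hprod
      have h1 := mul_left_cancel hprod
      conv_rhs => rw [← h1, zz_cancel]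
    have hmm : m * m = 1 ∨ m * m = c.z := by
      refine d.fixed_K he he2 heU (mul_mem hmK hmK) (mul_inv_eq_iff_eq_mul.1 ?_)
      rw [← conj_mul, hem, mul_assoc m c.z, ← mul_assoc c.z, ← zc (d.L_le hm), zz_cancel]
    rcases hmm with h1 | h1
    · have := d.K_invol hmK h1
      rcases this with h | h <;> rw [h] at hem
      · rw [mul_one, mul_inv_cancel, one_mul] at hem
        exact absurd hem.symm c.z_ne
      · rw [hez, c.zz] at hem
        exact absurd hem c.z_ne
    · rcases d.K_root hmK h1 with h | h <;> rcases hx' with h' | h' <;> rw [h, h']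
      · exact hqlU
      · rw [mul_assoc d.q, ← zc d.l_memS, ← mul_assoc]
        exact mul_mem hqlU c.z_mem
      · rw [← mul_assoc]; exact mul_mem hqlU c.z_mem
      · rw [mul_assoc d.q, ← mul_assoc c.z, ← zc d.l_memS, zz_cancel]
        exact hqlU
  rcases hxax with h | h | h | h
  · exact hcentral (by rw [h]; group)
  · exact hcentral (by rw [h, hez])
  · exact houter (by rw [h, heq]) (Or.inl h)
  · exact houter (by rw [h, conj_z (c.T_le he), heq]) (Or.inr h)

/-- An element acting as an outer automorphism squares to `u` or `uz` when it fixes `q` and commutes with `e`. -/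
theorem cent_outer {e h : G} (he : e ∈ c.T) (he2 : e * e = 1) (heU : e ∉ c.U) (hh : h ∈ c.T)
    (heh : e * h = h * e) (hq : h * d.q * h⁻¹ = d.q) (hi : ¬ d.Inn h) :
    h * h = c.u ∨ h * h = c.u * c.z := by
  have hhS := c.T_le hh
  obtain ⟨m, hm, e'⟩ := d.sq_fix hhS hi hq
  have hU : h * h ∈ c.U := by
    refine d.cent_inner he he2 heU (mul_mem hh hh) ?_ ?_ ((d.inn_mul hhS hhS).2 Iff.rfl)
    · rw [← mul_assoc, heh, mul_assoc, heh, mul_assoc]
    · rw [show h * h * d.q * (h * h)⁻¹ = h * (h * d.q * h⁻¹) * h⁻¹ by group, hq, hq]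
  rcases c.mem_U.1 hU with h' | h' | h' | h'
  · rw [h'] at e'
    exact absurd (by rw [eq_inv_of_mul_eq_one_left e'.symm]; exact inv_mem hm) d.q_notin_L
  · rw [h'] at e'
    refine absurd ?_ d.q_notin_L
    rw [show d.q = c.z * m⁻¹ by rw [e']; group]
    exact mul_mem d.z_memL (inv_mem hm)
  · exact Or.inl h'
  · exact Or.inr h'

end Quat

namespace Ctx2.Moving

variable {c : Ctx2 G} {H : Subgroup G} {n : G}

theorem image_notin_U (h : c.Moving H n) (d : Quat c) (hnf : ¬ c.Fused) : n * c.z * n⁻¹ ∉ c.U :=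
  fun hU => hnf (d.fused_of_conj hU h.moves)

theorem mem_cases (h : c.Moving H n) (d : Quat c) (hnf : ¬ c.Fused) {x : G} (hx : x ∈ H) (hx2 : x * x = 1) :
    x ∈ c.U ∨ x * (n * c.z * n⁻¹) ∈ c.U := by
  by_cases hxU : x ∈ c.U
  · exact Or.inl hxU
  · exact Or.inr (d.pair_mem (h.le_T h.image_mem) h.image_sq (h.image_notin_U d hnf) (h.le_T hx) hx2 hxU
      (h.image_comm hx).symm)

end Ctx2.Moving

namespace Quat

variable {c : Ctx2 G} (d : Quat c)

include d in
/-- The normaliser of `U⟨e⟩` permutes `z`, `e` and `ez`. -/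
theorem orbit {H : Subgroup G} {n : G} (h : c.Moving H n) (hnf : ¬ c.Fused) (hel : ∀ x ∈ H, x * x = 1)
    {m : G} (hm : m ∈ normalizer (H : Set G)) :
    m * c.z * m⁻¹ = c.z ∨ m * c.z * m⁻¹ = n * c.z * n⁻¹ ∨ m * c.z * m⁻¹ = n * c.z * n⁻¹ * c.z := by
  classical
  set e := n * c.z * n⁻¹ with he
  have heT : e ∈ c.T := h.le_T h.image_mem
  have heU : e ∉ c.U := h.image_notin_U d hnf
  have hee : e * e = 1 := h.image_sq
  have hle : d.l * e * d.l⁻¹ = e * c.z := by
    have h1 := (d.invol_T heT hee heU).2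
    rw [eq_inv_of_sq hee] at h1
    calc d.l * e * d.l⁻¹ = e * (e * d.l * e) * d.l⁻¹ := by
          rw [show e * (e * d.l * e) = e * e * d.l * e by group, hee, one_mul]
      _ = e * c.z := by rw [h1, mul_assoc e, zc d.l_memS, mul_inv_cancel_right]
  have hlU : ∀ v ∈ c.U, d.l * v * d.l⁻¹ = v := fun v hv => by rw [c.T_comm d.lT hv, mul_inv_cancel_right]
  have hHall : ∀ x ∈ H, x ∈ c.U ∨ x * e ∈ c.U := fun x hx => h.mem_cases d hnf hx (hel x hx)
  have hlN : d.l ∈ normalizer (H : Set G) := by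
    have hone : ∀ k : G, (∀ v ∈ c.U, k * v * k⁻¹ = v) → k * e * k⁻¹ = e * c.z → ∀ x ∈ H, k * x * k⁻¹ ∈ H := by
      intro k hkU hke x hx
      rcases hHall x hx with hxU | hxU
      · rw [hkU x hxU]; exact hx
      · have ex : x = x * e * e := by rw [mul_assoc, hee, mul_one]
        rw [ex, ← conj_mul, hkU _ hxU, hke]
        exact mul_mem (h.U_le hxU) (mul_mem h.image_mem (h.U_le c.z_mem))
    have hlU' : ∀ v ∈ c.U, d.l⁻¹ * v * d.l⁻¹⁻¹ = v := fun v hv => by
      rw [c.T_comm (inv_mem d.lT) hv, mul_inv_cancel_right]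
    have hle' : d.l⁻¹ * e * d.l⁻¹⁻¹ = e * c.z := by
      have e1 : d.l⁻¹ * (d.l * e * d.l⁻¹) * d.l⁻¹⁻¹ = e := by group
      rw [hle, conj_z (inv_mem d.l_memS)] at e1
      conv_rhs => rw [← e1, zz_cancel]
    refine mem_normalizer_iff.2 fun x => ⟨hone _ hlU hle x, fun hx => ?_⟩
    have := hone _ hlU' hle' _ hx
    convert this using 1
    group
  have hv : ∀ k ∈ normalizer (H : Set G), k * c.z * k⁻¹ ∈ H ∧ k * c.z * k⁻¹ ≠ 1 ∧
      (k * c.z * k⁻¹ ∈ c.U → k * c.z * k⁻¹ = c.z) := fun k hk =>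
    ⟨(mem_normalizer_iff.1 hk _).1 (h.U_le c.z_mem), fun e' => c.z_ne (conj_eq_one_iff.1 e'), fun hU =>
      by_contra fun hne => hnf (d.fused_of_conj hU hne)⟩
  obtain ⟨hvH, hv1, hvU⟩ := hv m hm
  rcases hHall _ hvH with hU | hU
  · exact Or.inl (hvU hU)
  have hsplit : m * c.z * m⁻¹ = m * c.z * m⁻¹ * e * e := by rw [mul_assoc _ e, hee, mul_one]
  rcases c.mem_U.1 hU with h' | h' | h' | h'
  · exact Or.inr (Or.inl (by rw [hsplit, h', one_mul]))
  · exact Or.inr (Or.inr (by rw [hsplit, h', ← zc (c.T_le heT)]))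
  all_goals
    exfalso
    -- all five involutions outside `{u, uz}` are conjugates of `z`
    have hue : ∃ k ∈ normalizer (H : Set G), k * c.z * k⁻¹ = c.u * e := by
      first
        | (refine ⟨m, hm, ?_⟩; rw [hsplit, h']; done)
        | (refine ⟨d.l * m, mul_mem hlN hm, ?_⟩
           rw [show d.l * m * c.z * (d.l * m)⁻¹ = d.l * (m * c.z * m⁻¹) * d.l⁻¹ by group, hsplit, h', ← conj_mul,
             hle, hlU _ (mul_mem c.u_mem c.z_mem), ← mul_assoc, mul_assoc c.u, ← zc (c.T_le heT),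
             ← mul_assoc, zz_cancel])
    obtain ⟨k, hk, hke⟩ := hue
    have hO : ∀ x ∈ H, x ≠ 1 → x = c.u ∨ x = c.u * c.z ∨
        ∃ k' ∈ normalizer (H : Set G), k' * c.z * k'⁻¹ = x := by
      intro x hx hx1
      have hez : ∃ k' ∈ normalizer (H : Set G), k' * c.z * k'⁻¹ = e * c.z :=
        ⟨d.l * n, mul_mem hlN h.norm, by
          rw [show d.l * n * c.z * (d.l * n)⁻¹ = d.l * e * d.l⁻¹ by rw [he]; group, hle]⟩
      have huze : ∃ k' ∈ normalizer (H : Set G), k' * c.z * k'⁻¹ = c.u * (e * c.z) :=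
        ⟨d.l * k, mul_mem hlN hk, by
          rw [show d.l * k * c.z * (d.l * k)⁻¹ = d.l * (k * c.z * k⁻¹) * d.l⁻¹ by group, hke, ← conj_mul,
            hlU _ c.u_mem, hle]⟩
      rcases hHall x hx with hxU | hxU
      · rcases c.mem_U.1 hxU with g | g | g | g
        exacts [absurd g hx1, Or.inr (Or.inr ⟨1, one_mem _, by rw [g]; group⟩), Or.inl g, Or.inr (Or.inl g)]
      · have ex : x = x * e * e := by rw [mul_assoc, hee, mul_one]
        refine Or.inr (Or.inr ?_)
        rcases c.mem_U.1 hxU with g | g | g | g <;> rw [ex, g]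
        · exact ⟨n, h.norm, by rw [one_mul, he]⟩
        · rw [← zc (c.T_le heT)]; exact hez
        · exact ⟨k, hk, hke⟩
        · rw [mul_assoc c.u, ← zc (c.T_le heT)]; exact huze
    have hnu : ∀ v ∈ c.U, v ≠ 1 → v ≠ c.z → n * v * n⁻¹ = c.u ∨ n * v * n⁻¹ = c.u * c.z := by
      intro v hv' hv1' hvz'
      rcases hO (n * v * n⁻¹) ((mem_normalizer_iff.1 h.norm v).1 (h.U_le hv'))
        (fun e' => hv1' (conj_eq_one_iff.1 e')) with g | g | ⟨k', -, g⟩
      · exact Or.inl g
      · exact Or.inr g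
      · have e' : n⁻¹ * k' * c.z * (n⁻¹ * k')⁻¹ = v := by
          rw [show n⁻¹ * k' * c.z * (n⁻¹ * k')⁻¹ = n⁻¹ * (k' * c.z * k'⁻¹) * n by group, g]; group
        exact absurd (d.fused_of_conj (e'.symm ▸ hv') (e'.symm ▸ hvz')) hnf
    have h1 := hnu _ c.u_mem c.u_ne c.u_ne_z
    have h2 := hnu _ (mul_mem c.u_mem c.z_mem) c.uz_ne c.uz_ne_z
    have hprod : e = n * c.u * n⁻¹ * (n * (c.u * c.z) * n⁻¹) := by
      rw [conj_mul, ← mul_assoc c.u, c.uu, one_mul, he]
    refine heU ?_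
    rcases h1 with g1 | g1 <;> rcases h2 with g2 | g2 <;> rw [hprod, g1, g2] <;>
      first
        | exact mul_mem c.u_mem c.u_mem | exact mul_mem c.u_mem (mul_mem c.u_mem c.z_mem)
        | exact mul_mem (mul_mem c.u_mem c.z_mem) c.u_mem
        | exact mul_mem (mul_mem c.u_mem c.z_mem) (mul_mem c.u_mem c.z_mem)

include d in
/-- Without fusion an element fixing some involution of `U` outside the centre moves `z` inside `T`. -/
theorem fixer (hnf : ¬ c.Fused) {H : Subgroup G} {n : G} (h : c.Moving H n) :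
    ∃ v ∈ c.U, v ≠ 1 ∧ v ≠ c.z ∧ ∃ g : G, g * v = v * g ∧ g * c.z * g⁻¹ ∈ c.T ∧ g * c.z * g⁻¹ ≠ c.z := by
  classical
  set e := n * c.z * n⁻¹ with he
  have heH : e ∈ H := h.image_mem
  have heT : e ∈ c.T := h.le_T heH
  have heU : e ∉ c.U := h.image_notin_U d hnf
  have hee : e * e = 1 := h.image_sq
  by_cases hel : ∀ x ∈ H, x * x = 1
  swap
  · push Not at hel
    obtain ⟨h₀, hh₀, hh₀2⟩ := hel
    -- adjust to fix `q`
    have hnorm : ∀ y ∈ H, ∃ y' ∈ H, y' * d.q * y'⁻¹ = d.q ∧ y' * y' = y * y := by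
      intro y hy
      rcases (d.signs (c.T_le (h.le_T hy))).1 with g | g
      · exact ⟨y, hy, g, rfl⟩
      · refine ⟨y * e, mul_mem hy heH, ?_, ?_⟩
        · rw [show y * e * d.q * (y * e)⁻¹ = y * (e * d.q * e⁻¹) * y⁻¹ by group, (d.invol_T heT hee heU).1,
            conj_z (c.T_le (h.le_T hy)), g, zz_cancel]
        · rw [show y * e * (y * e) = y * (e * y) * e by group, ← h.image_comm hy,
            show y * (y * e) * e = y * y * (e * e) by group, hee, mul_one]
    obtain ⟨k, hk, hkq, hk2⟩ := hnorm h₀ hh₀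
    have hki : ¬ d.Inn k := fun hi => hh₀2 (by
      rw [← hk2]
      exact c.U_sq _ (d.cent_inner heT hee heU (h.le_T hk) (h.image_comm hk).symm hkq hi))
    have hcases := d.cent_outer heT hee heU (h.le_T hk) (h.image_comm hk).symm hkq hki
    have hsq : ∀ y ∈ H, y * y = 1 ∨ y * y = k * k := by
      intro y hy
      obtain ⟨y', hy', hy'q, hy'2⟩ := hnorm y hy
      rw [← hy'2]
      by_cases hi : d.Inn y'
      · exact Or.inl (c.U_sq _ (d.cent_inner heT hee heU (h.le_T hy') (h.image_comm hy').symm hy'q hi))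
      · set w := k⁻¹ * y' with hw
        have hwH : w ∈ H := mul_mem (inv_mem hk) hy'
        have hwi : d.Inn w := by
          have hkinv : ¬ d.Inn k⁻¹ := fun hi' => by
            have h1 := (d.inn_mul (c.T_le (h.le_T hk)) (inv_mem (c.T_le (h.le_T hk)))).1
              (by rw [mul_inv_cancel]; exact d.inn_X (one_mem _))
            exact hki (h1.2 hi')
          exact (d.inn_mul (inv_mem (c.T_le (h.le_T hk))) (c.T_le (h.le_T hy'))).2 (iff_of_false hkinv hi)
        have hwq : w * d.q * w⁻¹ = d.q := by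
          rw [hw, show k⁻¹ * y' * d.q * (k⁻¹ * y')⁻¹ = k⁻¹ * (y' * d.q * y'⁻¹) * k by group, hy'q]
          nth_rewrite 1 [← hkq]
          group
        have hwU := d.cent_inner heT hee heU (h.le_T hwH) (h.image_comm hwH).symm hwq hwi
        refine Or.inr ?_
        have e1 : y' = k * w := by rw [hw]; group
        rw [e1, show k * w * (k * w) = k * (w * k) * w by group, ← c.T_comm (h.le_T hk) hwU,
          show k * (k * w) * w = k * k * (w * w) by group, c.U_sq _ hwU, mul_one]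
    have hkU : k * k ∈ c.U := by
      rcases hcases with g | g <;> rw [g]
      exacts [c.u_mem, mul_mem c.u_mem c.z_mem]
    have hk1 : k * k ≠ 1 := by
      rcases hcases with g | g <;> rw [g]
      exacts [c.u_ne, c.uz_ne]
    have hkz : k * k ≠ c.z := by
      rcases hcases with g | g <;> rw [g]
      exacts [c.u_ne_z, c.uz_ne_z]
    refine ⟨k * k, hkU, hk1, hkz, n, mul_inv_eq_iff_eq_mul.1 ?_, heT, h.moves⟩
    rw [← conj_mul]
    exact (hsq _ ((mem_normalizer_iff.1 h.norm k).1 hk)).resolve_left fun g =>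
      hk1 (conj_eq_one_iff.1 (conj_mul.symm.trans g))
  -- the elementary case
  have hle : d.l * e * d.l⁻¹ = e * c.z := by
    have h1 := (d.invol_T heT hee heU).2
    rw [eq_inv_of_sq hee] at h1
    calc d.l * e * d.l⁻¹ = e * (e * d.l * e) * d.l⁻¹ := by
          rw [show e * (e * d.l * e) = e * e * d.l * e by group, hee, one_mul]
      _ = e * c.z := by rw [h1, mul_assoc e, zc d.l_memS, mul_inv_cancel_right]
  have hlU : ∀ v ∈ c.U, d.l * v * d.l⁻¹ = v := fun v hv => by rw [c.T_comm d.lT hv, mul_inv_cancel_right]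
  have heS : e ∈ (c.S : Subgroup G) := c.T_le heT
  have hlN : ∀ x ∈ H, d.l * x * d.l⁻¹ ∈ H := by
    intro x hx
    rcases h.mem_cases d hnf hx (hel x hx) with hxU | hxU <;> rw [← he] at *
    · rw [hlU x hxU]; exact hx
    · have ex : x = x * e * e := by rw [mul_assoc, hee, mul_one]
      rw [ex, ← conj_mul, hlU _ hxU, hle]
      exact mul_mem (h.U_le hxU) (mul_mem heH (h.U_le c.z_mem))
  have hlnorm : d.l ∈ normalizer (H : Set G) := mem_normalizer_iff.2 fun x => ⟨hlN x, fun hx => by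
    have h1 := hlN _ hx
    rw [show d.l * (d.l * x * d.l⁻¹) * d.l⁻¹ = d.l * d.l * x * (d.l * d.l)⁻¹ by group, d.ll] at h1
    have hxS : d.l * x * d.l⁻¹ ∈ (c.S : Subgroup G) := h.le_S hx
    have hx' : x ∈ (c.S : Subgroup G) := by
      have := mul_mem (mul_mem (inv_mem d.l_memS) hxS) d.l_memS
      convert this using 1
      group
    rwa [← zc hx', mul_inv_cancel_right] at h1⟩
  set l' := n * d.l * n⁻¹ with hl'
  have hl'N : l' ∈ normalizer (H : Set G) := mul_mem (mul_mem h.norm hlnorm) (inv_mem h.norm)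
  set a := n⁻¹ * c.z * n with ha
  have haH : a ∈ H := by simpa using (mem_normalizer_iff.1 (inv_mem h.norm) _).1 (h.U_le c.z_mem)
  have ha' : a = e ∨ a = e * c.z := by
    have h1 := d.orbit h hnf hel (inv_mem h.norm)
    rw [inv_inv] at h1
    refine h1.resolve_left fun g => h.moves ?_
    conv_lhs => rw [← g]
    group
  have hla : d.l * a * d.l⁻¹ = a * c.z := by
    rcases ha' with g | g <;> rw [g]
    · exact hle
    · rw [conj_z d.l_memS, hle]
  have hl'z : l' * c.z * l'⁻¹ = c.z * e := by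
    rw [hl', show n * d.l * n⁻¹ * c.z * (n * d.l * n⁻¹)⁻¹ = n * (d.l * a * d.l⁻¹) * n⁻¹ by rw [ha]; group, hla,
      ← conj_mul, he]
    rw [ha]; group
  have hl'e : l' * e * l'⁻¹ = e := by
    rw [hl', he, show n * d.l * n⁻¹ * (n * c.z * n⁻¹) * (n * d.l * n⁻¹)⁻¹ = n * (d.l * c.z * d.l⁻¹) * n⁻¹ by group,
      zc d.l_memS, mul_inv_cancel_right]
  -- the three-cycle
  set g := l' * d.l with hg
  have hgN : g ∈ normalizer (H : Set G) := mul_mem hl'N hlnorm
  have hgmul : ∀ x y : G, g * (x * y) * g⁻¹ = g * x * g⁻¹ * (g * y * g⁻¹) := fun x y => conj_mul.symm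
  have hze : c.z * e = e * c.z := (zc heS).symm
  have gz : g * c.z * g⁻¹ = e * c.z := by
    rw [hg, show l' * d.l * c.z * (l' * d.l)⁻¹ = l' * (d.l * c.z * d.l⁻¹) * l'⁻¹ by group, zc d.l_memS,
      mul_inv_cancel_right, hl'z, hze]
  have ge : g * e * g⁻¹ = c.z := by
    rw [hg, show l' * d.l * e * (l' * d.l)⁻¹ = l' * (d.l * e * d.l⁻¹) * l'⁻¹ by group, hle, ← conj_mul, hl'e,
      hl'z, hze, ← mul_assoc, hee, one_mul]
  have gez : g * (e * c.z) * g⁻¹ = e := by
    rw [hgmul, ge, gz, ← mul_assoc, hze, zz_cancel]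
  have gu : g * c.u * g⁻¹ ∈ H := (mem_normalizer_iff.1 hgN _).1 (h.U_le c.u_mem)
  -- `W = {1, z, e, ez}`
  let W : Set G := {x | x = 1 ∨ x = c.z ∨ x = e ∨ x = e * c.z}
  have hδ : c.u * (g * c.u * g⁻¹) ∈ W := by
    have hinv : ∀ x, x ∈ W → g⁻¹ * x * g ∈ W := by
      rintro x (rfl | rfl | rfl | rfl)
      · left; group
      · exact Or.inr (Or.inr (Or.inl (by conv_lhs => rw [← ge]
                                         group)))
      · exact Or.inr (Or.inr (Or.inr (by conv_lhs => rw [← gez]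
                                         group)))
      · exact Or.inr (Or.inl (by conv_lhs => rw [← gz]
                                 group))
    have huW : c.u ∉ W := by
      rintro (g' | g' | g' | g')
      · exact c.u_ne g'
      · exact c.u_ne_z g'
      · exact heU (g' ▸ c.u_mem)
      · refine heU ?_
        rw [show e = c.u * c.z by rw [g', zz_cancel]]
        exact mul_mem c.u_mem c.z_mem
    set y := g * c.u * g⁻¹ with hy
    have hyW : y ∉ W := fun hy' => huW (by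
      have := hinv y hy'
      rwa [hy, show g⁻¹ * (g * c.u * g⁻¹) * g = c.u by group] at this)
    rcases h.mem_cases d hnf gu (hel _ gu) with g' | g'
    · rcases c.mem_U.1 g' with g'' | g'' | g'' | g''
      · exact absurd (Or.inl g'') hyW
      · exact absurd (Or.inr (Or.inl g'')) hyW
      · exact Or.inl (by rw [g'', c.uu])
      · exact Or.inr (Or.inl (by rw [g'', ← mul_assoc, c.uu, one_mul]))
    · rw [← he] at g'
      have ey : y = y * e * e := by rw [mul_assoc, hee, mul_one]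
      rcases c.mem_U.1 g' with g'' | g'' | g'' | g''
      · exact absurd (Or.inr (Or.inr (Or.inl (by rw [ey, g'', one_mul])))) hyW
      · exact absurd (Or.inr (Or.inr (Or.inr (by rw [ey, g'', hze])))) hyW
      · exact Or.inr (Or.inr (Or.inl (by rw [ey, g'', ← mul_assoc, c.uu, one_mul])))
      · exact Or.inr (Or.inr (Or.inr (by rw [ey, g'', mul_assoc c.u, ← mul_assoc c.u, c.uu, one_mul, hze])))
  set δ := c.u * (g * c.u * g⁻¹) with hδ'
  have hguδ : g * c.u * g⁻¹ = c.u * δ := by rw [hδ', ← mul_assoc, c.uu, one_mul]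
  -- the fixed point
  set v := c.u * (g * δ * g⁻¹) with hv
  have huS := c.uS
  have hmd : δ * (g * (g * δ * g⁻¹) * g⁻¹) = g * δ * g⁻¹ := by
    have h1 : g * 1 * g⁻¹ = 1 := by group
    rcases hδ with g' | g' | g' | g' <;> rw [g']
    · rw [h1, h1, one_mul]
    · rw [gz, gez, hze]
    · rw [ge, gz, ← mul_assoc, hee, one_mul]
    · rw [gez, ge, zz_cancel]
  have hgv : g * v * g⁻¹ = v := by rw [hv, hgmul, hguδ, mul_assoc, hmd]
  have hcases : v ∈ c.U := by
    have hlv : ∀ w, w = e ∨ w = e * c.z → v = c.u * w → False := by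
      intro w hw hvw
      have h2 : d.l * v * d.l⁻¹ = v * c.z := by
        rw [hvw, ← conj_mul, hlU _ c.u_mem, mul_assoc c.u]
        rcases hw with rfl | rfl
        · rw [hle]
        · rw [conj_z d.l_memS, hle]
      have hvH : v ∈ H := by
        rw [hvw]
        refine mul_mem (h.U_le c.u_mem) ?_
        rcases hw with rfl | rfl
        · exact heH
        · exact mul_mem heH (h.U_le c.z_mem)
      -- `l v` is fixed by `g`
      set w' := n⁻¹ * v * n with hw'
      have hw'H : w' ∈ H := by simpa using (mem_normalizer_iff.1 (inv_mem h.norm) v).1 hvH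
      have hl2 : ∀ x ∈ H, d.l * (d.l * x * d.l⁻¹) * d.l⁻¹ = x := fun x hx => by
        rw [show d.l * (d.l * x * d.l⁻¹) * d.l⁻¹ = d.l * d.l * x * (d.l * d.l)⁻¹ by group, d.ll,
          ← zc (h.le_S hx), mul_inv_cancel_right]
      have h1 : l' * (d.l * v * d.l⁻¹) * l'⁻¹ = v := by
        rw [show l' * (d.l * v * d.l⁻¹) * l'⁻¹ = g * v * g⁻¹ by rw [hg]; group, hgv]
      have h1' : l' * v * l'⁻¹ = d.l * v * d.l⁻¹ := by
        have hlvH : d.l * v * d.l⁻¹ ∈ H := hlN v hvH
        have hl'2 : l' * (l' * (d.l * v * d.l⁻¹) * l'⁻¹) * l'⁻¹ = d.l * v * d.l⁻¹ := by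
          set y := n⁻¹ * (d.l * v * d.l⁻¹) * n with hy
          have hyH : y ∈ H := by simpa [hy] using (mem_normalizer_iff.1 (inv_mem h.norm) _).1 hlvH
          rw [hl', show n * d.l * n⁻¹ * (n * d.l * n⁻¹ * (d.l * v * d.l⁻¹) * (n * d.l * n⁻¹)⁻¹) *
            (n * d.l * n⁻¹)⁻¹ = n * (d.l * (d.l * y * d.l⁻¹) * d.l⁻¹) * n⁻¹ by rw [hy]; group, hl2 y hyH, hy]
          group
        rw [h1] at hl'2
        exact hl'2
      have hfix : g * (d.l * v * d.l⁻¹) * g⁻¹ = d.l * v * d.l⁻¹ := by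
        rw [show g * (d.l * v * d.l⁻¹) * g⁻¹ = l' * (d.l * (d.l * v * d.l⁻¹) * d.l⁻¹) * l'⁻¹ by rw [hg]; group,
          hl2 v hvH, h1']
      rw [h2, hgmul, hgv, gz] at hfix
      exact heU (by rw [mul_eq_right.1 (mul_left_cancel hfix)]; exact one_mem _)
    rcases hδ with g' | g' | g' | g'
    · rw [hv, g', show g * 1 * g⁻¹ = 1 by group, mul_one]; exact c.u_mem
    · exact (hlv _ (Or.inr rfl) (by rw [hv, g', gz])).elim
    · rw [hv, g', ge]; exact mul_mem c.u_mem c.z_mem
    · exact (hlv _ (Or.inl rfl) (by rw [hv, g', gez])).elim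
  refine ⟨v, hcases, fun g' => ?_, fun g' => ?_, g, mul_inv_eq_iff_eq_mul.1 hgv, ?_, ?_⟩
  · rw [hv] at g'
    have hgu : g * δ * g⁻¹ = c.u := by rw [eq_inv_of_mul_eq_one_right g', eq_inv_of_sq c.uu]
    rcases hδ with g'' | g'' | g'' | g'' <;> rw [g''] at hgu
    · exact c.u_ne (by rw [← hgu]; group)
    · rw [gz] at hgu
      exact heU (by rw [show e = c.u * c.z by rw [← hgu, zz_cancel]]; exact mul_mem c.u_mem c.z_mem)
    · rw [ge] at hgu; exact c.u_ne_z hgu.symm
    · rw [gez] at hgu; exact heU (hgu ▸ c.u_mem)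
  · have h' := hgv
    rw [g', gz] at h'
    exact heU (by rw [mul_eq_right.1 h']; exact one_mem _)
  · rw [gz]; exact mul_mem heT c.zT
  · rw [gz]; exact fun g' => heU (by rw [mul_eq_right.1 g']; exact one_mem _)

include d in
/-- Without fusion some involution of `T` outside `U` is normalised by `T` modulo `U`. -/
theorem second (hnf : ¬ c.Fused) :
    ∃ e ∈ c.T, e * e = 1 ∧ e ∉ c.U ∧ ∀ t ∈ c.T, t * e * t⁻¹ * e⁻¹ ∈ c.U := by
  classical
  obtain ⟨H, n, h⟩ := d.exists_moving
  obtain ⟨v, hvU, hv1, hvz, g, hgv, hgT, hgne⟩ := d.fixer hnf h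
  obtain ⟨Q, hQT, hQn, hQc, hfac⟩ := d.exists_core hvU hv1 hvz hnf
  obtain ⟨o, m, rfl, hm, -, ho⟩ := hfac g hgv
  have hzQ : c.z ∈ Q := hQc _ c.zT fun y hy => c.z_central y (c.T_le (hQT hy))
  set e := m * c.z * m⁻¹ with he
  have heQ : e ∈ Q := (mem_normalizer_iff.1 hm _).1 hzQ
  have hom : o * m * c.z * (o * m)⁻¹ = o * e * o⁻¹ := by rw [he]; group
  rw [hom] at hgT hgne
  rw [ho e (hQT heQ) hgT] at hgne
  have hee : e * e = 1 := by
    rw [he, show m * c.z * m⁻¹ * (m * c.z * m⁻¹) = m * (c.z * c.z) * m⁻¹ by group, c.zz]; group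
  have heU : e ∉ c.U := fun hU => hnf (d.fused_of_conj (g := m) hU hgne)
  have hec : ∀ y ∈ Q, y * e = e * y := by
    intro y hy
    have hy' : m⁻¹ * y * m ∈ Q := by simpa using (mem_normalizer_iff.1 (inv_mem hm) y).1 hy
    calc y * e = m * (m⁻¹ * y * m * c.z) * m⁻¹ := by rw [he]; group
      _ = e * y := by rw [c.z_central _ (c.T_le (hQT hy')), he]; group
  refine ⟨e, hQT heQ, hee, heU, fun t ht => ?_⟩
  set f := t * e * t⁻¹ with hf
  have hfQ : f ∈ Q := hQn t ht e heQ
  have hf2 : f * f = 1 := by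
    rw [hf, show t * e * t⁻¹ * (t * e * t⁻¹) = t * (e * e) * t⁻¹ by group, hee]; group
  have hfU : f ∉ c.U := fun hU => heU (by
    have : e = f := by
      calc e = t⁻¹ * f * t := by rw [hf]; group
        _ = f := by rw [mul_assoc, ← c.T_comm ht hU, inv_mul_cancel_left]
    exact this ▸ hU)
  rw [eq_inv_of_sq hee]
  exact d.pair_mem (hQT heQ) hee heU (hQT hfQ) hf2 hfU (hec f hfQ).symm

end Quat

end CfsgLib.NoEightConstrained
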