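/-
The centraliser of `l` in `L` is `⟨l⟩`, and `L` is `⟨l⟩`.

Blueprint: `blueprint/S3272.md`, part P4.
-/
import Cfsg.Agent.Lib.NoEightConstrained.Quat.Second

set_option autoImplicit false
set_option linter.style.haveILetI false

namespace CfsgLib.NoEightConstrained

open Subgroup

variable {G : Type*} [Group G] [Finite G]

/-- The four-group on two commuting involutions. -/
theorem exists_four {Y : Type*} [Group Y] {a b : Y} (ha : a * a = 1) (hb : b * b = 1) (hab : a * b = b * a)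
    (ha1 : a ≠ 1) (hb1 : b ≠ 1) (hba : b ≠ a) :
    ∃ V : Subgroup Y, (∀ x, x ∈ V ↔ x = 1 ∨ x = a ∨ x = b ∨ x = b * a) ∧ Nat.card ↥V = 4 := by
  have hc : Commute a b := hab
  have e1 : a * (b * a) = b := by rw [← mul_assoc, hab, mul_assoc, ha, mul_one]
  have e2 : b * (b * a) = a := by rw [← mul_assoc, hb, one_mul]
  have e3 : b * a * a = b := by rw [mul_assoc, ha, mul_one]
  have e4 : b * a * b = a := by rw [mul_assoc, hab, ← mul_assoc, hb, one_mul]
  have e5 : b * a * (b * a) = 1 := by rw [← mul_assoc, e4, ha]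
  let V : Subgroup Y :=
    { carrier := {x | x = 1 ∨ x = a ∨ x = b ∨ x = b * a}
      one_mem' := Or.inl rfl
      mul_mem' := by
        rintro x y (rfl | rfl | rfl | rfl) (rfl | rfl | rfl | rfl) <;>
          simp only [Set.mem_ofPred_eq, one_mul, mul_one, ha, hb, hab, e1, e2, e3, e4, e5, true_or, or_true]
      inv_mem' := by
        rintro x (rfl | rfl | rfl | rfl)
        · exact Or.inl inv_one
        · exact Or.inr (Or.inl (inv_eq_of_mul_eq_one_right ha))
        · exact Or.inr (Or.inr (Or.inl (inv_eq_of_mul_eq_one_right hb)))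
        · exact Or.inr (Or.inr (Or.inr (inv_eq_of_mul_eq_one_right e5))) }
  have hVm : ∀ x, x ∈ V ↔ x = 1 ∨ x = a ∨ x = b ∨ x = b * a := fun x => Iff.rfl
  refine ⟨V, hVm, ?_⟩
  let f : Fin 4 → ↥V := ![⟨1, Or.inl rfl⟩, ⟨a, Or.inr (Or.inl rfl)⟩, ⟨b, Or.inr (Or.inr (Or.inl rfl))⟩,
    ⟨b * a, Or.inr (Or.inr (Or.inr rfl))⟩]
  have n1 : b * a ≠ 1 := fun e => hba (by rw [eq_inv_of_mul_eq_one_left e, inv_eq_of_mul_eq_one_right ha])
  have n2 : b * a ≠ a := fun e => hb1 (mul_eq_right.1 e)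
  have hf : Function.Bijective f := by
    refine ⟨fun i k hik => ?_, fun ⟨x, hx⟩ => ?_⟩
    · fin_cases i <;> fin_cases k <;>
        simp_all [f, Subtype.ext_iff, Ne.symm hb1, Ne.symm hba, Ne.symm ha1, Ne.symm n1, Ne.symm n2]
    · rcases (hVm x).1 hx with h | h | h | h
      exacts [⟨0, Subtype.ext h.symm⟩, ⟨1, Subtype.ext h.symm⟩, ⟨2, Subtype.ext h.symm⟩, ⟨3, Subtype.ext h.symm⟩]
  rw [← Nat.card_eq_of_bijective f hf, Nat.card_fin]

namespace Quat

variable {c : Ctx2 G} (d : Quat c)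

theorem u_notin_L : c.u ∉ d.L := fun h => d.q_notin_L (by
  rw [show d.q = c.u * d.l⁻¹ by rw [d.u_eq]; group]
  exact mul_mem h (inv_mem d.l_memL))

/-- The members of `U` in `L` are central. -/
theorem U_L {v : G} (hv : v ∈ c.U) (hL : v ∈ d.L) : v = 1 ∨ v = c.z := by
  rcases c.mem_U.1 hv with h | h | h | h
  · exact Or.inl h
  · exact Or.inr h
  · exact absurd (h ▸ hL) d.u_notin_L
  · refine absurd ?_ d.u_notin_L
    rw [← zz_cancel (c := c) c.u]
    exact mul_mem (h ▸ hL) d.z_memL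

/-- Elements acting as inner automorphisms square into `L`. -/
theorem sq_inner {t : G} (ht : t ∈ (c.S : Subgroup G)) (hi : d.Inn t) : t * t ∈ d.L := by
  obtain ⟨x, hx, m, hm, rfl⟩ := d.decomp ht hi
  rw [show x * m * (x * m) = x * (m * x) * m by group, d.L_comm hm hx,
    show x * (x * m) * m = x * x * (m * m) by group]
  refine mul_mem ?_ (mul_mem hm hm)
  have hzL : c.z ∈ d.L := d.z_memL
  have h4 : x * x * (x * x) = 1 := by
    rcases d.X_cases x hx with h | h | h | h | h | h | h | h <;> rw [h]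
    · simp
    · rw [c.zz, one_mul]
    · rw [d.qq, c.zz]
    · rw [sq_z d.qS, d.qq, c.zz]
    · rw [d.jj, c.zz]
    · rw [sq_z d.jS, d.jj, c.zz]
    · rw [sq_qj, c.zz]
    · rw [sq_z (mul_mem d.qS d.jS), sq_qj, c.zz]
  rcases d.X_sq _ (mul_mem hx hx) h4 with h | h <;> rw [h]
  exacts [one_mem _, hzL]
where
  sq_z {a : G} (ha : a ∈ (c.S : Subgroup G)) : a * c.z * (a * c.z) = a * a := by
    rw [show a * c.z * (a * c.z) = a * (c.z * a) * c.z by group, ← zc ha,
      show a * (a * c.z) * c.z = a * a * (c.z * c.z) by group, c.zz, mul_one]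
  sq_qj : d.q * d.j * (d.q * d.j) = c.z := by
    have h := mul_inv_eq_iff_eq_mul.1 d.jq
    rw [show d.q * d.j * (d.q * d.j) = d.q * (d.j * d.q) * d.j by group, h,
      show d.q * (d.q * c.z * d.j) * d.j = d.q * d.q * c.z * (d.j * d.j) by group, d.qq, d.jj, c.zz, one_mul]

/-- Fourth powers in `T` lie in `L`. -/
theorem fourth_mem {t : G} (ht : t ∈ c.T) : t * t * (t * t) ∈ d.L := by
  have htS := c.T_le ht
  by_cases hi : d.Inn t
  · exact mul_mem (d.sq_inner htS hi) (d.sq_inner htS hi)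
  · rcases (d.signs htS).1 with g | g
    · exact d.sq_inner (mul_mem htS htS) ((d.inn_mul htS htS).2 Iff.rfl)
    · exact mul_mem (d.sq_inv htS hi g) (d.sq_inv htS hi g)

/-- The centraliser of `l` in `L` is `⟨l⟩`. -/
theorem K_eq {k : G} (hk : k ∈ d.K) : k = 1 ∨ k = c.z ∨ k = d.l ∨ k = d.l * c.z := by
  by_contra hne
  push Not at hne
  obtain ⟨n1, n2, n3, n4⟩ := hne
  have hkk : k * k * (k * k) ≠ 1 := by
    intro e
    rcases d.K_invol (mul_mem hk hk) e with h | h
    · exact (d.K_invol hk h).elim n1 n2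
    · exact (d.K_root hk h).elim n3 n4
  obtain ⟨i, hi1, hi4⟩ := c.exists_pow_four (mul_mem (d.L_le (d.K_le hk)) (d.L_le (d.K_le hk))) hkk
  set g := k ^ i with hg
  have hw : (k * k) ^ i = g * g := by rw [hg, (Commute.refl k).mul_pow]
  rw [hw] at hi1 hi4
  have hgK : g ∈ d.K := pow_mem hk i
  have hggz : g * g * (g * g) = c.z := (d.K_invol (mul_mem (mul_mem hgK hgK) (mul_mem hgK hgK)) hi4).resolve_left hi1
  have hgl := d.K_root (mul_mem hgK hgK) hggz
  have hgL := d.K_le hgK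
  have hgT : g ∈ c.T := (d.mem_T (d.L_le hgL)).2 (iff_of_true (d.L_fix hgL d.q_mem)
    (by rw [(d.mem_K.1 hgK).2, mul_inv_cancel_right]))
  by_cases hf : c.Fused
  · obtain ⟨w, hw', hwU, hwz⟩ := hf
    have h := d.fourth_mem ((mem_normalizer_iff.1 hw' g).1 hgT)
    rw [conj_mul, conj_mul, hggz] at h
    exact (d.U_L hwU h).elim (fun e => c.z_ne (conj_eq_one_iff.1 e)) hwz
  · obtain ⟨e, he, he2, heU, hec⟩ := d.second hf
    set v := g * e * g⁻¹ * e⁻¹ with hv
    have hge : g * e * g⁻¹ = v * e := by rw [hv]; group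
    have hgg : g * g * e * (g * g)⁻¹ = e := by
      rw [show g * g * e * (g * g)⁻¹ = g * (g * e * g⁻¹) * g⁻¹ by group, hge, ← conj_mul, hge,
        c.T_comm hgT (hec g hgT), mul_inv_cancel_right, ← mul_assoc, c.U_sq v (hec g hgT), one_mul]
    have hl := (d.invol_T he he2 heU).2
    have hfix : e * (g * g) * e⁻¹ = g * g := by
      rw [← mul_inv_eq_iff_eq_mul.1 hgg, mul_inv_cancel_right]
    rcases hgl with h | h <;> rw [h] at hfix
    · rw [hl] at hfix; exact ne_mul_z hfix
    · rw [conj_z (c.T_le he), hl] at hfix; exact ne_mul_z hfix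

/-- Dihedral `L` contradicts four-connectedness. -/
theorem dihedral_false {m : G} (hm : m ∈ d.L) (hml : m * d.l * m⁻¹ = d.l * c.z) (hm2 : m * m = 1)
    (hL : ∀ x ∈ d.L, x ∈ d.K ∨ ∃ k ∈ d.K, x = m * k) : False := by
  classical
  set S : Subgroup G := (c.S : Subgroup G) with hS
  have hmS : m ∈ S := d.L_le hm
  have hm1 : m ≠ 1 := fun e => by
    rw [e] at hml
    exact ne_mul_z (hml.symm.trans (by group))
  have hmz : m ≠ c.z := fun e => by
    rw [e, ← zc d.l_memS, mul_inv_cancel_right] at hml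
    exact ne_mul_z hml.symm
  have hlm : d.l * m * d.l⁻¹ = m * c.z := by
    rw [mul_inv_eq_iff_eq_mul, mul_assoc]
    have h := mul_inv_eq_iff_eq_mul.1 hml
    calc d.l * m = d.l * c.z * m * c.z := by
          rw [mul_assoc d.l c.z, ← zc hmS, ← mul_assoc, zz_cancel]
      _ = m * d.l * c.z := by rw [h]
      _ = m * (c.z * d.l) := by rw [mul_assoc, zc d.l_memS]
  have hzm : c.z * m * c.z⁻¹ = m := by rw [← zc hmS, mul_inv_cancel_right]
  have hKm : ∀ k ∈ d.K, k * m * k⁻¹ = m ∨ k * m * k⁻¹ = m * c.z := by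
    intro k hk
    rcases d.K_eq hk with h | h | h | h <;> rw [h]
    · left; group
    · exact Or.inl hzm
    · exact Or.inr hlm
    · rw [show d.l * c.z * m * (d.l * c.z)⁻¹ = d.l * (c.z * m * c.z⁻¹) * d.l⁻¹ by group, hzm]
      exact Or.inr hlm
  have hLm : ∀ k ∈ d.L, k * m * k⁻¹ = m ∨ k * m * k⁻¹ = m * c.z := by
    intro k hk
    rcases hL k hk with h | ⟨k', hk', rfl⟩
    · exact hKm k h
    · rw [show m * k' * m * (m * k')⁻¹ = m * (k' * m * k'⁻¹) * m⁻¹ by group]
      rcases hKm k' hk' with h | h <;> rw [h]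
      · left; group
      · rw [conj_z hmS]; right; group
  have hInn : ∀ s ∈ S, d.Inn s → s * m * s⁻¹ = m ∨ s * m * s⁻¹ = m * c.z := by
    intro s hs hi
    obtain ⟨x, hx, k, hk, rfl⟩ := d.decomp hs hi
    rw [show x * k * m * (x * k)⁻¹ = x * (k * m * k⁻¹) * x⁻¹ by group,
      d.X_fix (d.L_normal (d.L_le hk) hm) hx]
    exact hLm k hk
  obtain ⟨s₀, hs₀, hs₀m, hs₀mz⟩ : ∃ s ∈ S, s * m * s⁻¹ ≠ m ∧ s * m * s⁻¹ ≠ m * c.z := by
    by_contra hall
    push Not at hall
    exact d.four_false hm hm2 hm1 hmz fun s hs => or_iff_not_imp_left.2 (hall s hs)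
  have hs₀i : ¬ d.Inn s₀ := fun hi => (hInn s₀ hs₀ hi).elim hs₀m hs₀mz
  have hcm : ∀ b ∈ S, b * m = m * b → b * b = 1 → b = 1 ∨ b = c.z ∨ b = m ∨ b = m * c.z := by
    intro b hb hbm hb2
    have hbi : d.Inn b := by
      by_contra hbi
      have hw : d.Inn (b⁻¹ * s₀) := by
        rw [eq_inv_of_sq hb2]
        exact (d.inn_mul hb hs₀).2 (iff_of_false hbi hs₀i)
      have e : s₀ * m * s₀⁻¹ = b * (b⁻¹ * s₀ * m * (b⁻¹ * s₀)⁻¹) * b⁻¹ := by group
      rcases hInn _ (mul_mem (inv_mem hb) hs₀) hw with h | h <;> rw [h] at e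
      · rw [hbm, mul_inv_cancel_right] at e
        exact hs₀m e
      · rw [conj_z hb, hbm, mul_inv_cancel_right] at e
        exact hs₀mz e
    obtain ⟨x, hx, k, hk, rfl⟩ := d.decomp hb hbi
    have hkm : k * m = m * k := by
      refine mul_left_cancel (a := x) ?_
      rw [← mul_assoc, hbm, ← mul_assoc m, d.L_comm hm hx, mul_assoc]
    have hk' : k = 1 ∨ k = c.z ∨ k = m ∨ k = m * c.z := by
      have hkey : ∀ k' ∈ d.K, k' * m = m * k' → k' = 1 ∨ k' = c.z := by
        intro k' hk' hcom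
        rcases d.K_eq hk' with h | h | h | h
        · exact Or.inl h
        · exact Or.inr h
        all_goals exfalso; rw [h] at hcom
        · rw [← hcom, mul_inv_cancel_right] at hml
          exact ne_mul_z hml.symm
        · rw [mul_assoc, ← zc hmS, ← mul_assoc, ← mul_assoc] at hcom
          have h' := mul_right_cancel hcom
          rw [← h', mul_inv_cancel_right] at hml
          exact ne_mul_z hml.symm
      rcases hL k hk with h | ⟨k', hk', rfl⟩
      · rcases hkey k h hkm with e | e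
        exacts [Or.inl e, Or.inr (Or.inl e)]
      · rw [mul_assoc] at hkm
        rcases hkey k' hk' (mul_left_cancel hkm) with e | e <;> rw [e]
        · exact Or.inr (Or.inr (Or.inl (mul_one m)))
        · exact Or.inr (Or.inr (Or.inr rfl))
    have hk2 : k * k = 1 := by
      rcases hk' with h | h | h | h <;> rw [h]
      exacts [one_mul 1, c.zz, hm2, sq_mul_of_comm hm2 c.zz (zc hmS)]
    have hxx : x * x = 1 := by
      rw [← hb2, show x * k * (x * k) = x * (k * x) * k by group, d.L_comm hk hx,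
        show x * (x * k) * k = x * x * (k * k) by group, hk2, mul_one]
    rcases d.X_sq x hx hxx with h | h <;> rw [h] <;> rcases hk' with g | g | g | g <;> rw [g]
    · exact Or.inl (one_mul 1)
    · exact Or.inr (Or.inl (one_mul _))
    · exact Or.inr (Or.inr (Or.inl (one_mul _)))
    · exact Or.inr (Or.inr (Or.inr (one_mul _)))
    · exact Or.inr (Or.inl (mul_one _))
    · exact Or.inl c.zz
    · exact Or.inr (Or.inr (Or.inr (zc hmS).symm))
    · refine Or.inr (Or.inr (Or.inl ?_))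
      rw [← mul_assoc, ← zc hmS, zz_cancel]
  -- the chains of commuting four-groups
  have hzS := c.zS
  obtain ⟨V, hV, hV4⟩ := exists_four (Y := ↥S) (a := ⟨c.z, hzS⟩) (b := ⟨m, hmS⟩) (Subtype.ext c.zz) (Subtype.ext hm2)
    (Subtype.ext (zc hmS).symm) (fun e => c.z_ne (congrArg Subtype.val e)) (fun e => hm1 (congrArg Subtype.val e))
    (fun e => hmz (congrArg Subtype.val e))
  have hVmem : ∀ w : ↥S, w ∈ V ↔ (w : G) = 1 ∨ (w : G) = c.z ∨ (w : G) = m ∨ (w : G) = m * c.z := by
    intro w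
    simp only [hV, Subtype.ext_iff, Subgroup.coe_one, Subgroup.coe_mul]
  have hkl : ∀ W : Subgroup ↥S, Nat.card ↥W = 4 → (∀ w ∈ W, (w : G) * w = 1) → IsKleinFour ↥W := by
    intro W h4 h2
    refine ⟨h4, ?_⟩
    haveI : Nontrivial ↥W := Finite.one_lt_card_iff_nontrivial.1 (by rw [h4]; norm_num)
    refine (Monoid.exponent_eq_prime_iff Nat.prime_two).2 fun g hg => orderOf_eq_prime ?_ hg
    exact Subtype.ext (Subtype.ext (by simpa [pow_two] using h2 _ g.2))
  have hV2 : ∀ w ∈ V, (w : G) * w = 1 := by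
    intro w hw
    rcases (hVmem w).1 hw with h | h | h | h <;> rw [h]
    exacts [one_mul 1, c.zz, hm2, sq_mul_of_comm hm2 c.zz (zc hmS)]
  have hU4 : Nat.card ↥(c.U.subgroupOf S) = 4 := by
    rw [Nat.card_congr (subgroupOfEquivOfLe c.U_le).toEquiv, c.U_card]
  have key : ∀ B, Relation.ReflTransGen
      (fun A B : Subgroup ↥S => IsKleinFour A ∧ IsKleinFour B ∧ ∀ a ∈ A, ∀ b ∈ B, a * b = b * a) V B →
        ∀ b ∈ B, b ∈ V := by
    intro B hB
    induction hB with
    | refl => exact fun b hb => hb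
    | @tail B B' _ hr ih =>
      obtain ⟨hB, hB', hcom⟩ := hr
      obtain ⟨b₀, hb₀, hb₀m⟩ : ∃ b₀ ∈ B, (b₀ : G) = m := by
        by_contra hno
        push Not at hno
        have heq : B = V := eq_of_le_of_card_ge ih (by rw [hV4, hB.card_four])
        exact hno ⟨m, hmS⟩ (heq ▸ (hVmem _).2 (Or.inr (Or.inr (Or.inl rfl)))) rfl
      intro b hb
      have hb2 : (b : G) * b = 1 := by
        have := Monoid.pow_exponent_eq_one (⟨b, hb⟩ : ↥B')
        rw [hB'.exponent_two, pow_two] at this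
        exact congrArg (fun w : ↥B' => ((w : ↥S) : G)) this
      have hbm : (b : G) * m = m * b := by
        rw [← hb₀m]
        exact (congrArg Subtype.val (hcom b₀ hb₀ b hb)).symm
      exact (hVmem b).2 (hcm b b.2 hbm hb2)
  have hu : (⟨c.u, c.uS⟩ : ↥S) ∈ V := key _ (c.conn V (c.U.subgroupOf S) (hkl V hV4 hV2)
    (hkl _ hU4 fun w hw => c.U_sq _ hw)) _ c.u_mem
  rcases (hVmem _).1 hu with h | h | h | h
  · exact c.u_ne h
  · exact c.u_ne_z h
  · exact d.u_notin_L (show c.u ∈ d.L by rw [show c.u = m from h]; exact hm)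
  · exact d.u_notin_L (show c.u ∈ d.L by rw [show c.u = m * c.z from h]; exact mul_mem hm d.z_memL)

end Quat

end CfsgLib.NoEightConstrained
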