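/-
The centraliser `L` of `X` is `⟨l⟩`.

Blueprint: `blueprint/S3272.md`, part P4.
-/
import Cfsg.Agent.Lib.NoEightConstrained.Quat.Small

set_option autoImplicit false
set_option linter.style.haveILetI false

namespace CfsgLib.NoEightConstrained

open Subgroup

variable {G : Type*} [Group G] [Finite G]

namespace Quat

variable {c : Ctx2 G} (d : Quat c)

/-- A quaternion `L` with an element acting on `X` as an outer and on `L` as an inner automorphism. -/
theorem outer_false {m y : G} (hm : m ∈ d.L) (hy : y ∈ (c.S : Subgroup G)) (hi : ¬ d.Inn y)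
    (hyq : y * d.q * y⁻¹ = d.q) (hyl : y * d.l * y⁻¹ = d.l) (hym : y * m * y⁻¹ = m)
    (hml : m * d.l * m⁻¹ = d.l * c.z) (hm2 : m * m = c.z)
    (hL : ∀ x ∈ d.L, x ∈ d.K ∨ ∃ k ∈ d.K, x = m * k) : False := by
  have hmS := d.L_le hm
  -- `y` centralises `L`
  have hyK : ∀ k ∈ d.K, y * k = k * y := by
    intro k hk
    have hl := mul_inv_eq_iff_eq_mul.1 hyl
    have hz := c.z_central y hy
    rcases d.K_eq hk with h | h | h | h <;> rw [h]
    · simp
    · exact hz
    · exact hl
    · exact ((show Commute y d.l from hl).mul_right hz).eq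
  have hyL : ∀ k ∈ d.L, y * k = k * y := by
    intro k hk
    rcases hL k hk with h | ⟨k', hk', rfl⟩
    · exact hyK k h
    · exact ((show Commute y m from mul_inv_eq_iff_eq_mul.1 hym).mul_right (hyK k' hk')).eq
  have hyT : y ∈ c.T := (d.mem_T hy).2 (iff_of_true hyq hyl)
  obtain ⟨w, hw, hyy⟩ := d.sq_fix hy hi hyq
  -- the square is `±q`
  have hwL : ∀ k ∈ d.L, w * k = k * w := by
    intro k hk
    have h1 : Commute (y * y) k := (show Commute y k from hyL k hk).mul_left (hyL k hk)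
    have h2 : Commute d.q k := (d.L_comm hk d.q_mem).symm
    rw [show w = d.q⁻¹ * (y * y) by rw [hyy]; group]
    exact (h2.inv_left.mul_left h1).eq
  have hw' : w = 1 ∨ w = c.z := by
    rcases hL w hw with h | ⟨k', hk', rfl⟩
    · have hwm := hwL m hm
      rcases d.K_eq h with e | e | e | e
      · exact Or.inl e
      · exact Or.inr e
      all_goals exfalso; rw [e] at hwm
      · rw [← hwm, mul_inv_cancel_right] at hml
        exact ne_mul_z hml.symm
      · rw [mul_assoc, ← zc hmS, ← mul_assoc, ← mul_assoc] at hwm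
        have h' := mul_right_cancel hwm
        rw [← h', mul_inv_cancel_right] at hml
        exact ne_mul_z hml.symm
    · exfalso
      have h' := hwL d.l d.l_memL
      rw [mul_assoc, (d.mem_K.1 hk').2, ← mul_assoc, ← mul_assoc] at h'
      have h'' := mul_right_cancel h'
      rw [h'', mul_inv_cancel_right] at hml
      exact ne_mul_z hml.symm
  have hyy' : y * y = d.q ∨ y * y = d.q * c.z := by
    rcases hw' with h | h <;> rw [hyy, h]
    exacts [Or.inl (mul_one _), Or.inr rfl]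
  by_cases hf : c.Fused
  · obtain ⟨n, hn, hnU, hnz⟩ := hf
    set t := n * d.q * n⁻¹ with ht
    have htT : t ∈ c.T := (mem_normalizer_iff.1 hn _).1 d.qT
    have htS := c.T_le htT
    have htt : t * t = n * c.z * n⁻¹ := by rw [ht, conj_mul, d.qq]
    have hnotL : t * t ∉ d.L := fun h => by
      rw [htt] at h
      exact (d.U_L hnU h).elim (fun e => c.z_ne (conj_eq_one_iff.1 e)) hnz
    have hti : ¬ d.Inn t := fun h => hnotL (d.sq_inner htS h)
    have hyi : ¬ d.Inn y⁻¹ := fun h => by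
      have h1 := (d.inn_mul hy (inv_mem hy)).1 (by rw [mul_inv_cancel]; exact d.inn_X (one_mem _))
      exact hi (h1.2 h)
    obtain ⟨x, hx, k, hk, e⟩ := d.decomp (mul_mem (inv_mem hy) htS)
      ((d.inn_mul (inv_mem hy) htS).2 (iff_of_false hyi hti))
    have et : t = y * x * k := by rw [mul_assoc, ← e]; group
    have hcomm : Commute (y * x) k :=
      (show Commute y k from hyL k hk).mul_left (d.L_comm hk hx).symm
    have hkk : k * k = 1 ∨ k * k = c.z := by
      have hK : ∀ k' ∈ d.K, k' * k' = 1 ∨ k' * k' = c.z := by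
        intro k' hk'
        rcases d.K_eq hk' with h | h | h | h <;> rw [h]
        · exact Or.inl (one_mul 1)
        · exact Or.inl c.zz
        · exact Or.inr d.ll
        · exact Or.inr (by rw [sq_inner.sq_z d.l_memS, d.ll])
      rcases hL k hk with h | ⟨k', hk', rfl⟩
      · exact hK k h
      · have hmi : m⁻¹ = m * c.z := inv_eq_of_mul_eq_one_right (by rw [← mul_assoc, hm2, c.zz])
        have hk'S : k' ∈ (c.S : Subgroup G) := d.L_le (d.K_le hk')
        have hmk : m * k' * m⁻¹ * k' = 1 ∨ m * k' * m⁻¹ * k' = c.z := by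
          have hzm : ∀ a ∈ (c.S : Subgroup G), m * (a * c.z) * m⁻¹ = m * a * m⁻¹ * c.z := fun a _ => conj_z hmS a
          have hzl := d.l_memS
          rcases d.K_eq hk' with h | h | h | h <;> rw [h]
          · left; group
          · left; rw [zc hmS, mul_inv_cancel_right, c.zz]
          · left; rw [hml, mul_assoc, ← zc hzl, ← mul_assoc, d.ll, c.zz]
          · left; rw [hzm _ hzl, hml, zz_cancel, ← mul_assoc, d.ll, c.zz]
        rw [show m * k' * (m * k') = m * k' * m⁻¹ * (m * m) * k' by group, hm2, mul_assoc _ c.z k', ← zc hk'S,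
          ← mul_assoc]
        rcases hmk with h | h <;> rw [h]
        · exact Or.inr (one_mul _)
        · exact Or.inl c.zz
    have hX : t * t ∈ d.X := by
      rw [et, show y * x * k * (y * x * k) = y * x * (k * (y * x)) * k by group, ← hcomm.eq,
        show y * x * (y * x * k) * k = y * x * y⁻¹ * (y * y) * x * (k * k) by group]
      refine mul_mem (mul_mem (mul_mem (d.X_normal y hy x hx) ?_) hx) ?_
      · rcases hyy' with h | h <;> rw [h]
        exacts [d.q_mem, mul_mem d.q_mem d.z_memX]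
      · rcases hkk with h | h <;> rw [h]
        exacts [one_mem _, d.z_memX]
    rw [htt] at hX
    have hlX : c.u ∈ d.X → False := fun h => d.l_notin_X (by
      rw [show d.l = d.q⁻¹ * c.u by rw [d.u_eq]; group]
      exact mul_mem (inv_mem d.q_mem) h)
    rcases c.mem_U.1 hnU with h | h | h | h
    · exact c.z_ne (conj_eq_one_iff.1 h)
    · exact hnz h
    · exact hlX (h ▸ hX)
    · refine hlX ?_
      rw [← zz_cancel (c := c) c.u]
      exact mul_mem (h ▸ hX) d.z_memX
  · obtain ⟨e, he, he2, heU, hec⟩ := d.second hf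
    set v := y * e * y⁻¹ * e⁻¹ with hv
    have hye : y * e * y⁻¹ = v * e := by rw [hv]; group
    have hfix' : y * y * e * (y * y)⁻¹ = e := by
      rw [show y * y * e * (y * y)⁻¹ = y * (y * e * y⁻¹) * y⁻¹ by group, hye, ← conj_mul, hye,
        c.T_comm hyT (hec y hyT), mul_inv_cancel_right, ← mul_assoc, c.U_sq v (hec y hyT), one_mul]
    have hfix : e * (y * y) * e⁻¹ = y * y := by
      rw [← mul_inv_eq_iff_eq_mul.1 hfix', mul_inv_cancel_right]
    have hq := (d.invol_T he he2 heU).1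
    rcases hyy' with h | h <;> rw [h] at hfix
    · rw [hq] at hfix; exact ne_mul_z hfix
    · rw [conj_z (c.T_le he), hq] at hfix; exact ne_mul_z hfix

/-- Quaternion `L` is impossible. -/
theorem quaternion_false {m : G} (hm : m ∈ d.L) (hml : m * d.l * m⁻¹ = d.l * c.z) (hm2 : m * m = c.z)
    (hL : ∀ x ∈ d.L, x ∈ d.K ∨ ∃ k ∈ d.K, x = m * k) : False := by
  classical
  have hmS := d.L_le hm
  have hlS := d.l_memS
  have hlm : d.l * m * d.l⁻¹ = m * c.z := by
    rw [mul_inv_eq_iff_eq_mul]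
    have h := mul_inv_eq_iff_eq_mul.1 hml
    calc d.l * m = d.l * c.z * m * c.z := by
          rw [mul_assoc d.l c.z, ← zc hmS, ← mul_assoc, zz_cancel]
      _ = m * d.l * c.z := by rw [h]
      _ = m * c.z * d.l := by rw [mul_assoc, zc hlS, ← mul_assoc]
  have hmm : m * m * m⁻¹ = m := by group
  have hll : d.l * d.l * d.l⁻¹ = d.l := by group
  have hzl : c.z * d.l * c.z⁻¹ = d.l := by rw [← zc hlS, mul_inv_cancel_right]
  have hzm : c.z * m * c.z⁻¹ = m := by rw [← zc hmS, mul_inv_cancel_right]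
  have hjm : d.j * m * d.j⁻¹ = m := d.X_fix hm d.j_mem
  have hjl : d.j * d.l * d.j⁻¹ = d.l := d.X_fix d.l_memL d.j_mem
  -- conjugation by members of `L` on `m`
  have hLm : ∀ k ∈ d.L, k * m * k⁻¹ = m ∨ k * m * k⁻¹ = m * c.z := by
    have hKm : ∀ k ∈ d.K, k * m * k⁻¹ = m ∨ k * m * k⁻¹ = m * c.z := by
      intro k hk
      rcases d.K_eq hk with h | h | h | h <;> rw [h]
      · left; group
      · exact Or.inl hzm
      · exact Or.inr hlm
      · rw [show d.l * c.z * m * (d.l * c.z)⁻¹ = d.l * (c.z * m * c.z⁻¹) * d.l⁻¹ by group, hzm]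
        exact Or.inr hlm
    intro k hk
    rcases hL k hk with h | ⟨k', hk', rfl⟩
    · exact hKm k h
    · rw [show m * k' * m * (m * k')⁻¹ = m * (k' * m * k'⁻¹) * m⁻¹ by group]
      rcases hKm k' hk' with h | h <;> rw [h]
      · exact Or.inl hmm
      · rw [conj_z hmS, hmm]; exact Or.inr rfl
  by_cases hy₀ : ∃ y ∈ (c.S : Subgroup G), ¬ d.Inn y ∧ (y * m * y⁻¹ = m ∨ y * m * y⁻¹ = m * c.z)
  · obtain ⟨y₀, hy₀, hy₀i, hy₀m⟩ := hy₀
    obtain ⟨k, hk, hkl, hkm⟩ : ∃ k ∈ d.L, k * d.l * k⁻¹ = y₀⁻¹ * d.l * y₀ ∧ k * m * k⁻¹ = y₀⁻¹ * m * y₀ := by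
      have h1 : y₀⁻¹ * d.l * y₀ = d.l ∨ y₀⁻¹ * d.l * y₀ = d.l * c.z := by
        rcases (d.signs (inv_mem hy₀)).2.1 with h | h <;> rw [inv_inv] at h
        exacts [Or.inl h, Or.inr h]
      have h2 : y₀⁻¹ * m * y₀ = m ∨ y₀⁻¹ * m * y₀ = m * c.z := by
        rcases hy₀m with h | h
        · left; nth_rewrite 1 [← h]; group
        · right
          have e : y₀⁻¹ * (y₀ * m * y₀⁻¹) * y₀ = m := by group
          rw [h, ← mul_assoc, mul_assoc _ c.z, ← zc hy₀, ← mul_assoc] at e
          conv_rhs => rw [← e, zz_cancel]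
      rcases h1 with h1 | h1 <;> rcases h2 with h2 | h2 <;> rw [h1, h2]
      · exact ⟨1, one_mem _, by group, by group⟩
      · exact ⟨d.l, d.l_memL, hll, hlm⟩
      · exact ⟨m, hm, hml, hmm⟩
      · refine ⟨m * d.l, mul_mem hm d.l_memL, ?_, ?_⟩
        · rw [show m * d.l * d.l * (m * d.l)⁻¹ = m * d.l * m⁻¹ by group, hml]
        · rw [show m * d.l * m * (m * d.l)⁻¹ = m * (d.l * m * d.l⁻¹) * m⁻¹ by group, hlm, conj_z hmS, hmm]
    set y₁ := y₀ * k with hy₁
    have hy₁S : y₁ ∈ (c.S : Subgroup G) := mul_mem hy₀ (d.L_le hk)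
    have hy₁i : ¬ d.Inn y₁ := fun h => hy₀i (((d.inn_mul hy₀ (d.L_le hk)).1 h).2 (d.inn_L hk))
    have hy₁l : y₁ * d.l * y₁⁻¹ = d.l := by
      rw [hy₁, show y₀ * k * d.l * (y₀ * k)⁻¹ = y₀ * (k * d.l * k⁻¹) * y₀⁻¹ by group, hkl]; group
    have hy₁m : y₁ * m * y₁⁻¹ = m := by
      rw [hy₁, show y₀ * k * m * (y₀ * k)⁻¹ = y₀ * (k * m * k⁻¹) * y₀⁻¹ by group, hkm]; group
    rcases (d.signs hy₁S).1 with hq | hq
    · exact d.outer_false hm hy₁S hy₁i hq hy₁l hy₁m hml hm2 hL
    · refine d.outer_false hm (y := y₁ * d.j) (mul_mem hy₁S d.jS)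
        (fun h => hy₁i (((d.inn_mul hy₁S d.jS).1 h).2 (d.inn_X d.j_mem))) ?_ ?_ ?_ hml hm2 hL
      · rw [show y₁ * d.j * d.q * (y₁ * d.j)⁻¹ = y₁ * (d.j * d.q * d.j⁻¹) * y₁⁻¹ by group, d.jq, conj_z hy₁S, hq,
          zz_cancel]
      · rw [show y₁ * d.j * d.l * (y₁ * d.j)⁻¹ = y₁ * (d.j * d.l * d.j⁻¹) * y₁⁻¹ by group, hjl, hy₁l]
      · rw [show y₁ * d.j * m * (y₁ * d.j)⁻¹ = y₁ * (d.j * m * d.j⁻¹) * y₁⁻¹ by group, hjm, hy₁m]
  push Not at hy₀
  -- a normal elementary subgroup of order eight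
  obtain ⟨f, hf⟩ : ∃ f, f = d.j * m := ⟨_, rfl⟩
  have hff : f * f = 1 := by
    rw [hf, show d.j * m * (d.j * m) = d.j * (m * d.j) * m by group, d.L_comm hm d.j_mem,
      show d.j * (d.j * m) * m = d.j * d.j * (m * m) by group, d.jj, hm2, c.zz]
  have hfu : f * c.u * f⁻¹ = c.u := by
    rw [d.u_eq, ← conj_mul, hf, show d.j * m * d.q * (d.j * m)⁻¹ = d.j * (m * d.q * m⁻¹) * d.j⁻¹ by group,
      d.L_fix hm d.q_mem, d.jq, show d.j * m * d.l * (d.j * m)⁻¹ = d.j * (m * d.l * m⁻¹) * d.j⁻¹ by group, hml,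
      conj_z d.jS, hjl, mul_assoc, ← mul_assoc c.z, ← zc hlS, zz_cancel]
  have hfS : f ∈ (c.S : Subgroup G) := hf ▸ mul_mem d.jS hmS
  have hfT : f ∈ c.T := c.mem_T_iff.2 ⟨hfS, mul_inv_eq_iff_eq_mul.1 hfu⟩
  have hfq : f * d.q * f⁻¹ ≠ d.q := by
    rw [hf, show d.j * m * d.q * (d.j * m)⁻¹ = d.j * (m * d.q * m⁻¹) * d.j⁻¹ by group, d.L_fix hm d.q_mem, d.jq]
    exact ne_mul_z
  have hfU : f ∉ c.U := fun h => hfq (d.U_fix h).1
  let F : Subgroup G :=
    { carrier := {x | x ∈ c.U ∨ x * f ∈ c.U}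
      one_mem' := Or.inl c.U.one_mem
      mul_mem' := by
        rintro a b (ha | ha) (hb | hb)
        · exact Or.inl (mul_mem ha hb)
        · right; rw [mul_assoc]; exact mul_mem ha hb
        · right
          rw [mul_assoc, ← c.T_comm hfT hb, ← mul_assoc]
          exact mul_mem ha hb
        · left
          have e : a * f * (b * f) = a * b := by
            have h1 := c.T_comm hfT hb
            rw [← mul_assoc f b f] at h1
            rw [show a * f * (b * f) = a * (f * b * f) by group, h1,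
              show a * (b * f * f) = a * b * (f * f) by group, hff, mul_one]
          exact e ▸ mul_mem ha hb
      inv_mem' := by
        rintro a (ha | ha)
        · exact Or.inl (inv_mem ha)
        · right
          have h3 := inv_mem ha
          have h4 := c.T_comm hfT h3
          rw [mul_inv_rev, ← mul_assoc, mul_inv_cancel, one_mul] at h4
          rw [mul_inv_rev, eq_inv_of_sq hff] at h3
          rw [h4, eq_inv_of_sq hff, mul_assoc _ f, ]
          rw [← mul_assoc, mul_assoc (f * a⁻¹) f f, hff, mul_one]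
          exact h3 }
  have hF : ∀ x, x ∈ F ↔ x ∈ c.U ∨ x * f ∈ c.U := fun x => Iff.rfl
  have hFT : F ≤ c.T := by
    rintro x (hx | hx)
    · exact c.U_le_T hx
    · have h := Subgroup.mul_mem _ (c.U_le_T hx) hfT
      rwa [mul_assoc, hff, mul_one] at h
  have hF2 : ∀ x ∈ F, x * x = 1 := by
    rintro x (hx | hx)
    · exact c.U_sq x hx
    · rw [show x = x * f * f by rw [mul_assoc, hff, mul_one]]
      exact sq_mul_of_comm (c.U_sq _ hx) hff (c.T_comm hfT hx).symm
  have hfconj : ∀ s ∈ (c.S : Subgroup G), s * f * s⁻¹ * f ∈ c.U := by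
    intro s hs
    have hzf : ∀ a : G, a * c.z * f = a * f * c.z := fun a => by rw [mul_assoc, ← zc hfS, ← mul_assoc]
    rw [hf, ← conj_mul, ← hf]
    by_cases hi : d.Inn s
    · have hsm : s * m * s⁻¹ = m ∨ s * m * s⁻¹ = m * c.z := by
        obtain ⟨x, hx, k, hk, rfl⟩ := d.decomp hs hi
        rw [show x * k * m * (x * k)⁻¹ = x * (k * m * k⁻¹) * x⁻¹ by group,
          d.X_fix (d.L_normal (d.L_le hk) hm) hx]
        exact hLm k hk
      rcases hi with h | h <;> rcases hsm with g | g <;> rw [h, g]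
      · rw [← hf, hff]; exact one_mem _
      · rw [← mul_assoc, ← hf, hzf, hff, one_mul]; exact c.z_mem
      · rw [mul_assoc d.j, ← zc hmS, ← mul_assoc, ← hf, hzf, hff, one_mul]; exact c.z_mem
      · rw [mul_assoc d.j, ← mul_assoc c.z, ← zc hmS, zz_cancel, ← hf, hff]; exact one_mem _
    · obtain ⟨g1, g2⟩ := hy₀ s hs hi
      have hsm : s * m * s⁻¹ = m * d.l ∨ s * m * s⁻¹ = m * d.l * c.z := by
        rcases hL _ (d.L_normal hs hm) with h | ⟨k, hk, e⟩
        · exfalso
          -- the image of `m` is in `⟨l⟩`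
          have hml' : ∀ a, a = d.l ∨ a = d.l * c.z → s * m * s⁻¹ ≠ a := by
            intro a ha e
            have h' : m = s⁻¹ * a * s := by rw [← e]; group
            have hmK : m ∈ d.K := by
              rw [h']
              have := d.K_normal (inv_mem hs) (k := a) (by
                rcases ha with rfl | rfl
                exacts [d.l_memK, mul_mem d.l_memK d.z_memK])
              rwa [inv_inv] at this
            have := (d.mem_K.1 hmK).2
            rw [this, mul_inv_cancel_right] at hml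
            exact ne_mul_z hml.symm
          have hm1 : m ≠ 1 := fun e => c.z_ne (by rw [← hm2, e, one_mul])
          have hmz : m ≠ c.z := fun e => c.z_ne (by rw [← hm2, e, c.zz])
          rcases d.K_eq h with e | e | e | e
          · exact hm1 (conj_eq_one_iff.1 e)
          · refine hmz ?_
            rw [show m = s⁻¹ * (s * m * s⁻¹) * s by group, e, mul_assoc, ← zc hs, inv_mul_cancel_left]
          · exact hml' _ (Or.inl rfl) e
          · exact hml' _ (Or.inr rfl) e
        · rcases d.K_eq hk with h | h | h | h <;> rw [h] at e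
          · exact absurd (e.trans (mul_one m)) g1
          · exact absurd e g2
          · exact Or.inl e
          · exact Or.inr (e.trans (mul_assoc _ _ _).symm)
      have hlf : d.l * f = f * d.l * c.z := by
        have h := mul_inv_eq_iff_eq_mul.1 hlm
        rw [hf, ← mul_assoc, d.L_comm d.l_memL d.j_mem, mul_assoc d.j, h, mul_assoc m, ← zc hlS]
        group
      have hmain : d.q * d.j * (m * d.l) * f ∈ c.U := by
        have e : d.q * d.j * (m * d.l) * f = c.u * c.z := by
          rw [show d.q * d.j * (m * d.l) * f = d.q * (d.j * m) * (d.l * f) by group, ← hf, hlf,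
            show d.q * f * (f * d.l * c.z) = d.q * (f * f) * d.l * c.z by group, hff, mul_one, d.u_eq]
        exact e ▸ mul_mem c.u_mem c.z_mem
      rcases d.outer_conj hs hi with h | h <;> rcases hsm with g | g <;> rw [h, g]
      · exact hmain
      · rw [← mul_assoc (d.q * d.j), hzf]; exact mul_mem hmain c.z_mem
      · rw [mul_assoc (d.q * d.j) c.z, ← zc (mul_mem hmS hlS), ← mul_assoc, hzf]; exact mul_mem hmain c.z_mem
      · rw [mul_assoc (d.q * d.j) c.z, ← mul_assoc c.z, ← zc (mul_mem hmS hlS), zz_cancel]; exact hmain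
  have hFS : F ≤ (c.S : Subgroup G) := hFT.trans c.T_le
  have h4 := c.noEight (F.subgroupOf (c.S : Subgroup G)) ⟨fun x hx s => ?_⟩
    ⟨⟨fun a b => Subtype.ext (Subtype.ext (comm_of_sq hF2 (mem_subgroupOf.1 a.2) (mem_subgroupOf.1 b.2)))⟩⟩
    fun x hx => Subtype.ext (by
      show (x : G) ^ 2 = 1
      rw [pow_two]; exact hF2 _ (mem_subgroupOf.1 hx))
  · rw [Nat.card_congr (subgroupOfEquivOfLe hFS).toEquiv] at h4
    have hlt : c.U < F := lt_of_le_of_ne (fun x hx => Or.inl hx) fun e => hfU (by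
      rw [e, hF]; exact Or.inr (by rw [hff]; exact c.U.one_mem))
    have hlt' : Nat.card ↥c.U < Nat.card ↥F :=
      lt_of_le_of_ne (card_le_of_le hlt.le) fun e => hlt.ne (eq_of_le_of_card_ge hlt.le e.ge)
    rw [c.U_card] at hlt'
    omega
  · show (s : G) * (x : G) * (s : G)⁻¹ ∈ F
    rcases (hF _).1 (mem_subgroupOf.1 hx) with h | h
    · exact Or.inl (c.U_normal _ s.2 _ h)
    · right
      rw [show (s : G) * x * (s : G)⁻¹ * f =
        s * (x * f) * (s : G)⁻¹ * ((s : G) * f⁻¹ * (s : G)⁻¹ * f) by group, eq_inv_of_sq hff]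
      exact mul_mem (c.U_normal _ s.2 _ h) (hfconj _ s.2)

/-- The centraliser of `X` is `⟨l⟩`. -/
theorem L_eq {x : G} (hx : x ∈ d.L) : x = 1 ∨ x = c.z ∨ x = d.l ∨ x = d.l * c.z := by
  by_contra hne
  have hxK : x ∉ d.K := fun h => hne (d.K_eq h)
  have hxS := d.L_le hx
  have hfix : ∀ y ∈ d.L, y * d.l * y⁻¹ = d.l → y ∈ d.K := fun y hy h =>
    d.mem_K.2 ⟨hy, mul_inv_eq_iff_eq_mul.1 h⟩
  have hxl : x * d.l * x⁻¹ = d.l * c.z := (d.signs hxS).2.1.resolve_left fun h => hxK (hfix x hx h)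
  have hL : ∀ y ∈ d.L, y ∈ d.K ∨ ∃ k ∈ d.K, y = x * k := by
    intro y hy
    rcases (d.signs (d.L_le hy)).2.1 with h | h
    · exact Or.inl (hfix y hy h)
    · refine Or.inr ⟨x⁻¹ * y, hfix _ (mul_mem (inv_mem hx) hy) ?_, by group⟩
      rw [show x⁻¹ * y * d.l * (x⁻¹ * y)⁻¹ = x⁻¹ * (y * d.l * y⁻¹) * x by group, h, ← hxl]
      group
  have hxxK : x * x ∈ d.K := hfix _ (mul_mem hx hx) (by
    rw [show x * x * d.l * (x * x)⁻¹ = x * (x * d.l * x⁻¹) * x⁻¹ by group, hxl, conj_z hxS, hxl, zz_cancel])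
  rcases d.K_eq hxxK with h | h | h | h
  · exact d.dihedral_false hx hxl h hL
  · exact d.quaternion_false hx hxl h hL
  all_goals
    have hc : x * (x * x) * x⁻¹ = x * x := by group
    rw [h] at hc
  · rw [hxl] at hc; exact ne_mul_z hc
  · rw [conj_z hxS, hxl] at hc; exact ne_mul_z hc

end Quat

end CfsgLib.NoEightConstrained
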