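/-
The quaternion shape does not occur.

Blueprint: `blueprint/S3272.md`, part P4.
-/
import Cfsg.Agent.Lib.NoEightConstrained.Quat.Trivial

set_option autoImplicit false
set_option linter.style.haveILetI false

namespace CfsgLib.NoEightConstrained

open Subgroup

variable {G : Type*} [Group G] [Finite G]

namespace Ctx2.Moving

variable {c : Ctx2 G} {H : Subgroup G} {n : G}

/-- Conjugating a moving step by an element of the Sylow subgroup. -/
theorem conj (h : c.Moving H n) {s : G} (hs : s ∈ (c.S : Subgroup G)) :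
    c.Moving (H.map (MulAut.conj s).toMonoidHom) (s * n * s⁻¹) where
  le_T := by
    rintro _ ⟨x, hx, rfl⟩
    exact c.T_normal hs (h.le_T hx)
  norm := by
    refine mem_normalizer_iff.2 fun x => ⟨?_, fun hx => ?_⟩
    · rintro ⟨y, hy, rfl⟩
      refine ⟨n * y * n⁻¹, (mem_normalizer_iff.1 h.norm y).1 hy, ?_⟩
      show s * (n * y * n⁻¹) * s⁻¹ = s * n * s⁻¹ * (s * y * s⁻¹) * (s * n * s⁻¹)⁻¹
      group
    · obtain ⟨y, hy, e⟩ := hx
      have e' : s * y * s⁻¹ = s * n * s⁻¹ * x * (s * n * s⁻¹)⁻¹ := e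
      refine ⟨n⁻¹ * y * n, by simpa using (mem_normalizer_iff.1 (inv_mem h.norm) y).1 hy, ?_⟩
      show s * (n⁻¹ * y * n) * s⁻¹ = x
      calc s * (n⁻¹ * y * n) * s⁻¹ = (s * n * s⁻¹)⁻¹ * (s * y * s⁻¹) * (s * n * s⁻¹) := by group
        _ = x := by rw [e']; group
  centric := by
    rintro x ⟨hx, hxc⟩
    refine ⟨s⁻¹ * x * s, h.centric ⟨Subgroup.mul_mem _ (Subgroup.mul_mem _ (Subgroup.inv_mem _ hs) hx) hs, mem_centralizer_iff.2 fun y hy => ?_⟩, ?_⟩
    · have h1 : s * y * s⁻¹ * x = x * (s * y * s⁻¹) := mem_centralizer_iff.1 hxc _ ⟨y, hy, rfl⟩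
      calc y * (s⁻¹ * x * s) = s⁻¹ * (s * y * s⁻¹ * x) * s := by group
        _ = s⁻¹ * x * s * y := by rw [h1]; group
    · show s * (s⁻¹ * x * s) * s⁻¹ = x
      group
  moves := by
    intro e
    refine h.moves ?_
    have hz : s⁻¹ * c.z * s = c.z := by rw [mul_assoc, ← c.z_central s hs, inv_mul_cancel_left]
    calc n * c.z * n⁻¹ = s⁻¹ * (s * n * s⁻¹ * c.z * (s * n * s⁻¹)⁻¹) * s := by
          conv_lhs => rw [← hz]
          group
      _ = c.z := by rw [e, hz]

end Ctx2.Moving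

namespace Quat

variable {c : Ctx2 G} (d : Quat c)

theorem inn_l {s : G} (hs : s ∈ (c.S : Subgroup G)) (hi : d.Inn s) : s * d.l * s⁻¹ = d.l := by
  obtain ⟨x, hx, m, hm, rfl⟩ := d.decomp hs hi
  rw [show x * m * d.l * (x * m)⁻¹ = x * (m * d.l * m⁻¹) * x⁻¹ by group,
    d.X_fix (d.L_normal (d.L_le hm) d.l_memL) hx]
  rcases d.L_eq hm with h | h | h | h <;> rw [h]
  · group
  · rw [← zc d.l_memS, mul_inv_cancel_right]
  · group
  · rw [show d.l * c.z * d.l * (d.l * c.z)⁻¹ = d.l * (c.z * d.l * c.z⁻¹) * d.l⁻¹ by group, ← zc d.l_memS,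
      mul_inv_cancel_right]
    group

/-- Elements of `T` acting as inner automorphisms. -/
theorem T_inner {t : G} (ht : t ∈ c.T) (hi : d.Inn t) : t ∈ c.U ∨ t * d.l⁻¹ ∈ c.U := by
  have htS := c.T_le ht
  have htl := d.inn_l htS hi
  have htq : t * d.q * t⁻¹ = d.q := ((d.mem_T htS).1 ht).2 htl
  obtain ⟨x, hx, m, hm, rfl⟩ := d.decomp htS hi
  have hxq : x * d.q * x⁻¹ = d.q := by
    rwa [show x * m * d.q * (x * m)⁻¹ = x * (m * d.q * m⁻¹) * x⁻¹ by group, d.L_fix hm d.q_mem] at htq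
  have hzU : c.z ∈ c.U := c.z_mem
  have hqU : d.q * d.l ∈ c.U := d.u_eq ▸ c.u_mem
  have hxax : x = 1 ∨ x = c.z ∨ x = d.q ∨ x = d.q * c.z := by
    have hzq : c.z * d.q * c.z⁻¹ = d.q := by rw [← zc d.qS, mul_inv_cancel_right]
    have hqqq : d.q * d.q * d.q⁻¹ = d.q := by group
    rcases d.X_cases x hx with h | h | h | h | h | h | h | h
    · exact Or.inl h
    · exact Or.inr (Or.inl h)
    · exact Or.inr (Or.inr (Or.inl h))
    · exact Or.inr (Or.inr (Or.inr h))
    all_goals exfalso; rw [h] at hxq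
    · rw [d.jq] at hxq
      exact ne_mul_z hxq
    · rw [show d.j * c.z * d.q * (d.j * c.z)⁻¹ = d.j * (c.z * d.q * c.z⁻¹) * d.j⁻¹ by group, hzq, d.jq] at hxq
      exact ne_mul_z hxq
    · rw [show d.q * d.j * d.q * (d.q * d.j)⁻¹ = d.q * (d.j * d.q * d.j⁻¹) * d.q⁻¹ by group, d.jq,
        conj_z d.qS, hqqq] at hxq
      exact ne_mul_z hxq
    · rw [show d.q * d.j * c.z * d.q * (d.q * d.j * c.z)⁻¹ =
          d.q * (d.j * (c.z * d.q * c.z⁻¹) * d.j⁻¹) * d.q⁻¹ by group, hzq, d.jq, conj_z d.qS, hqqq] at hxq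
      exact ne_mul_z hxq
  -- the set is closed under `z` and contains the products
  have key : ∀ a : G, a ∈ c.U ∨ a * d.l⁻¹ ∈ c.U → a * c.z ∈ c.U ∨ a * c.z * d.l⁻¹ ∈ c.U := by
    rintro a (h | h)
    · exact Or.inl (mul_mem h hzU)
    · refine Or.inr ?_
      rw [mul_assoc, ← zc (inv_mem d.l_memS), ← mul_assoc]
      exact mul_mem h hzU
  have hqli : d.q * d.l⁻¹ ∈ c.U := by
    rw [show d.l⁻¹ = d.l * c.z from inv_eq_of_mul_eq_one_right (by rw [← mul_assoc, d.ll, c.zz]), ← mul_assoc]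
    exact mul_mem hqU hzU
  have hm' : ∀ a : G, (a ∈ c.U ∨ a * d.l⁻¹ ∈ c.U) → (a * d.l ∈ c.U ∨ a * d.l * d.l⁻¹ ∈ c.U) →
      a * m ∈ c.U ∨ a * m * d.l⁻¹ ∈ c.U := by
    intro a h1 h2
    rcases d.L_eq hm with h | h | h | h <;> rw [h]
    · rwa [mul_one]
    · exact key a h1
    · exact h2
    · rw [← mul_assoc]; exact key _ h2
  have base : ∀ a : G, (a = 1 ∨ a = d.q) → (a ∈ c.U ∨ a * d.l⁻¹ ∈ c.U) ∧
      (a * d.l ∈ c.U ∨ a * d.l * d.l⁻¹ ∈ c.U) := by
    rintro a (rfl | rfl)
    · exact ⟨Or.inl (one_mem _), Or.inr (by rw [mul_inv_cancel_right]; exact one_mem _)⟩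
    · exact ⟨Or.inr hqli, Or.inl hqU⟩
  have hxz : ∀ a : G, a * c.z * m = a * m * c.z := fun a => by rw [mul_assoc, ← zc (d.L_le hm), ← mul_assoc]
  rcases hxax with h | h | h | h <;> rw [h]
  · exact hm' 1 (base 1 (Or.inl rfl)).1 (base 1 (Or.inl rfl)).2
  · have := key _ (hm' 1 (base 1 (Or.inl rfl)).1 (base 1 (Or.inl rfl)).2)
    rw [one_mul] at this
    rwa [← zc (d.L_le hm)]
  · exact hm' _ (base _ (Or.inr rfl)).1 (base _ (Or.inr rfl)).2
  · rw [hxz]
    exact key _ (hm' _ (base _ (Or.inr rfl)).1 (base _ (Or.inr rfl)).2)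

/-- An involution of `T` outside `U` acts as an outer automorphism. -/
theorem invol_not_inn {e : G} (he : e ∈ c.T) (he2 : e * e = 1) (heU : e ∉ c.U) : ¬ d.Inn e := fun h => by
  have h1 := (d.invol_T he he2 heU).2
  rw [d.inn_l (c.T_le he) h] at h1
  exact ne_mul_z h1.symm

/-- Every member of `T` is in `U`, `Ul`, `Ue` or `Ule`. -/
theorem T_cases {e t : G} (he : e ∈ c.T) (he2 : e * e = 1) (heU : e ∉ c.U) (ht : t ∈ c.T) :
    ∃ v ∈ c.U, t = v ∨ t = v * d.l ∨ t = v * e ∨ t = v * d.l * e := by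
  have hform : ∀ a ∈ c.T, d.Inn a → ∃ v ∈ c.U, a = v ∨ a = v * d.l := by
    intro a ha hi
    rcases d.T_inner ha hi with h | h
    · exact ⟨a, h, Or.inl rfl⟩
    · exact ⟨_, h, Or.inr (by rw [inv_mul_cancel_right])⟩
  by_cases hi : d.Inn t
  · obtain ⟨v, hv, h⟩ := hform t ht hi
    rcases h with h | h
    exacts [⟨v, hv, Or.inl h⟩, ⟨v, hv, Or.inr (Or.inl h)⟩]
  · have et : t = t * e * e := by rw [mul_assoc, he2, mul_one]
    obtain ⟨v, hv, h⟩ := hform (t * e) (mul_mem ht he)
      ((d.inn_mul (c.T_le ht) (c.T_le he)).2 (iff_of_false hi (d.invol_not_inn he he2 heU)))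
    rcases h with h | h
    exacts [⟨v, hv, Or.inr (Or.inr (Or.inl (by rw [et, h])))⟩, ⟨v, hv, Or.inr (Or.inr (Or.inr (by rw [et, h])))⟩]

include d in
/-- Commutators in `T` lie in `⟨z⟩`. -/
theorem T_conj {e a b : G} (he : e ∈ c.T) (he2 : e * e = 1) (heU : e ∉ c.U) (ha : a ∈ c.T) (hb : b ∈ c.T) :
    a * b * a⁻¹ = b ∨ a * b * a⁻¹ = b * c.z := by
  have haS := c.T_le ha
  have heS := c.T_le he
  have hmul : ∀ x y : G, y ∈ (c.S : Subgroup G) → (a * x * a⁻¹ = x ∨ a * x * a⁻¹ = x * c.z) →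
      (a * y * a⁻¹ = y ∨ a * y * a⁻¹ = y * c.z) →
      a * (x * y) * a⁻¹ = x * y ∨ a * (x * y) * a⁻¹ = x * y * c.z := by
    intro x y hy hx' hy'
    rw [← conj_mul]
    rcases hx' with h | h <;> rcases hy' with g | g <;> rw [h, g]
    · exact Or.inl rfl
    · exact Or.inr (mul_assoc _ _ _).symm
    · exact Or.inr (by rw [mul_assoc, ← zc hy, ← mul_assoc])
    · exact Or.inl (by rw [mul_assoc x c.z, ← mul_assoc c.z, ← zc hy, zz_cancel])
  have hU : ∀ v ∈ c.U, a * v * a⁻¹ = v := fun v hv => by rw [c.T_comm ha hv, mul_inv_cancel_right]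
  have hl := (d.signs haS).2.1
  have hee : a * e * a⁻¹ = e ∨ a * e * a⁻¹ = e * c.z := by
    have hle : d.l * e * d.l⁻¹ = e * c.z := by
      have h1 := (d.invol_T he he2 heU).2
      rw [eq_inv_of_sq he2] at h1
      calc d.l * e * d.l⁻¹ = e * (e * d.l * e) * d.l⁻¹ := by
            rw [show e * (e * d.l * e) = e * e * d.l * e by group, he2, one_mul]
        _ = e * c.z := by rw [h1, mul_assoc e, zc d.l_memS, mul_inv_cancel_right]
    obtain ⟨v, hv, h⟩ := d.T_cases he he2 heU ha
    have hve : v * e * v⁻¹ = e := by rw [← c.T_comm he hv, mul_inv_cancel_right]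
    rcases h with h | h | h | h <;> rw [h]
    · exact Or.inl hve
    · right
      rw [show v * d.l * e * (v * d.l)⁻¹ = v * (d.l * e * d.l⁻¹) * v⁻¹ by group, hle, conj_z (c.U_le hv), hve]
    · left
      rw [show v * e * e * (v * e)⁻¹ = v * e * v⁻¹ by group, hve]
    · right
      rw [show v * d.l * e * e * (v * d.l * e)⁻¹ = v * (d.l * e * d.l⁻¹) * v⁻¹ by group, hle,
        conj_z (c.U_le hv), hve]
  obtain ⟨v, hv, h⟩ := d.T_cases he he2 heU hb
  have hlS := d.l_memS
  rcases h with h | h | h | h <;> rw [h]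
  · exact Or.inl (hU v hv)
  · exact hmul _ _ hlS (Or.inl (hU v hv)) hl
  · exact hmul _ _ heS (Or.inl (hU v hv)) hee
  · exact hmul _ _ heS (hmul _ _ hlS (Or.inl (hU v hv)) hl) hee

include d in
/-- The subgroup of a moving step is `U⟨e⟩`. -/
theorem moving_mem {H : Subgroup G} {n : G} (h : c.Moving H n) (hnf : ¬ c.Fused) {x : G} :
    x ∈ H ↔ x ∈ c.U ∨ x * (n * c.z * n⁻¹) ∈ c.U := by
  obtain ⟨e, he⟩ : ∃ e, e = n * c.z * n⁻¹ := ⟨_, rfl⟩
  rw [← he]
  have heH : e ∈ H := he ▸ h.image_mem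
  have heT := h.le_T heH
  have hee : e * e = 1 := he ▸ h.image_sq
  have heU : e ∉ c.U := he ▸ h.image_notin_U d hnf
  constructor
  · intro hx
    rw [he]
    refine h.mem_cases d hnf hx ?_
    have hc := h.image_comm hx
    rw [← he] at hc
    obtain ⟨v, hv, hv'⟩ := d.T_cases heT hee heU (h.le_T hx)
    have hle : d.l * e ≠ e * d.l := fun g => by
      have h1 := (d.invol_T heT hee heU).2
      rw [← g, mul_inv_cancel_right] at h1
      exact ne_mul_z h1.symm
    have hve : v * e = e * v := (c.T_comm heT hv).symm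
    rcases hv' with g | g | g | g
    · rw [g]; exact c.U_sq v hv
    · exfalso
      rw [g, mul_assoc, ← mul_assoc e, ← hve, mul_assoc v e] at hc
      exact hle (mul_left_cancel hc)
    · rw [g]; exact sq_mul_of_comm (c.U_sq v hv) hee hve
    · exfalso
      rw [g, mul_assoc (v * d.l), hee, mul_one, ← mul_assoc, ← mul_assoc, ← hve, mul_assoc v e,
        mul_assoc v (e * d.l) e] at hc
      have h1 : d.l = e * d.l * e := mul_left_cancel hc
      refine hle ?_
      conv_lhs => rw [h1, mul_assoc, hee, mul_one]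
  · rintro (hx | hx)
    · exact h.U_le hx
    · have := mul_mem (h.U_le hx) heH
      rwa [mul_assoc, hee, mul_one] at this

include d in
/-- The quaternion shape does not occur. -/
theorem quat_shape_false : False := by
  classical
  obtain ⟨H₁, n₁, h₁⟩ := d.exists_moving
  -- no fusion in the normaliser of `T`
  have hnf : ¬ c.Fused := by
    intro hf
    obtain ⟨w, hw, hwU, hwz⟩ := hf
    obtain ⟨e, he, he2, heU⟩ : ∃ e ∈ c.T, e * e = 1 ∧ e ∉ c.U := by
      by_contra hno
      push Not at hno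
      refine c.rank3 fun E hEc hE2 => ?_
      haveI := hEc
      have hU'card : Nat.card ↥(c.U.subgroupOf (c.S : Subgroup G)) = 4 := by
        rw [Nat.card_congr (subgroupOfEquivOfLe c.U_le).toEquiv, c.U_card]
      have hsq : ∀ a : ↥(c.S : Subgroup G), a ∈ E → (a : G) * a = 1 := fun a ha => by
        have := hE2 a ha
        rw [pow_two] at this
        exact congrArg Subtype.val this
      by_cases hET : ∀ a ∈ E, (a : G) ∈ c.T
      · refine (card_le_of_le fun a ha => mem_subgroupOf.2 (hno _ (hET a ha) (hsq a ha))).trans ?_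
        rw [hU'card]; norm_num
      · push Not at hET
        obtain ⟨x, hxE, hxT⟩ := hET
        have key : ∀ a ∈ E, (a : G) ∈ c.T → (a : G) = 1 ∨ (a : G) = c.z := by
          intro a ha haT
          have hcomm : (x : G) * (a : G) = (a : G) * x :=
            congrArg (fun w : ↥E => ((w : ↥(c.S : Subgroup G)) : G))
              (hEc.is_comm.comm (⟨x, hxE⟩ : ↥E) ⟨a, ha⟩)
          have hxu : (x : G) * c.u ≠ c.u * x := fun g => hxT (c.mem_T_iff.2 ⟨x.2, g⟩)
          rcases c.mem_U.1 (hno _ haT (hsq a ha)) with g | g | g | g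
          · exact Or.inl g
          · exact Or.inr g
          · exact absurd (g ▸ hcomm) hxu
          · refine absurd ?_ hxu
            rw [g, ← mul_assoc, mul_assoc c.u, ← zc x.2, ← mul_assoc] at hcomm
            exact mul_right_cancel hcomm
        let f : ↥E → Bool × Bool := fun a =>
          (decide (((a : ↥(c.S : Subgroup G)) : G) ∈ c.T), decide (((a : ↥(c.S : Subgroup G)) : G) = 1 ∨
            (x : G) * ((a : ↥(c.S : Subgroup G)) : G) = 1))
        have hf : Function.Injective f := by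
          intro a b hab
          refine Subtype.ext (Subtype.ext ?_)
          simp only [f, Prod.mk.injEq, decide_eq_decide] at hab
          obtain ⟨hab1, hab2⟩ := hab
          have hx2 := hsq x hxE
          by_cases haT : ((a : ↥(c.S : Subgroup G)) : G) ∈ c.T
          · have hxa : (x : G) * ((a : ↥(c.S : Subgroup G)) : G) ≠ 1 := fun g => hxT (by
              rw [eq_inv_of_mul_eq_one_left g]; exact inv_mem haT)
            have hbT := hab1.1 haT
            have hxb : (x : G) * ((b : ↥(c.S : Subgroup G)) : G) ≠ 1 := fun g => hxT (by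
              rw [eq_inv_of_mul_eq_one_left g]; exact inv_mem hbT)
            simp only [hxa, hxb, or_false] at hab2
            rcases key _ a.2 haT with g1 | g1 <;> rcases key _ b.2 hbT with g2 | g2
            · rw [g1, g2]
            · exact absurd (g2.symm.trans (hab2.1 g1)) c.z_ne
            · exact absurd (g1.symm.trans (hab2.2 g2)) c.z_ne
            · rw [g1, g2]
          · have hbT : ¬ ((b : ↥(c.S : Subgroup G)) : G) ∈ c.T := fun g => haT (hab1.2 g)
            have ha1 : ((a : ↥(c.S : Subgroup G)) : G) ≠ 1 := fun g => haT (g ▸ one_mem _)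
            have hb1 : ((b : ↥(c.S : Subgroup G)) : G) ≠ 1 := fun g => hbT (g ▸ one_mem _)
            simp only [ha1, hb1, false_or] at hab2
            refine mul_left_cancel (a := (x : G)) ?_
            rcases key _ (mul_mem hxE a.2) (c.mul_mem_T x.2 a.1.2 hxT haT) with g1 | g1 <;>
              rcases key _ (mul_mem hxE b.2) (c.mul_mem_T x.2 b.1.2 hxT hbT) with g2 | g2 <;>
              rw [Subgroup.coe_mul] at g1 g2
            · rw [g1, g2]
            · exact absurd (g2.symm.trans (hab2.1 g1)) c.z_ne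
            · exact absurd (g1.symm.trans (hab2.2 g2)) c.z_ne
            · rw [g1, g2]
        refine (Nat.card_le_card_of_injective f hf).trans ?_
        rw [Nat.card_prod, Nat.card_eq_fintype_card, Fintype.card_bool]
        norm_num
    have hz : e * d.l * e⁻¹ = d.l * c.z := (d.invol_T he he2 heU).2
    have h := d.T_conj he he2 heU ((mem_normalizer_iff.1 hw e).1 he) ((mem_normalizer_iff.1 hw d.l).1 d.lT)
    rw [show w * e * w⁻¹ * (w * d.l * w⁻¹) * (w * e * w⁻¹)⁻¹ = w * (e * d.l * e⁻¹) * w⁻¹ by group, hz,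
      ← conj_mul] at h
    rcases h with h | h
    · exact c.z_ne (conj_eq_one_iff.1 (mul_eq_left.1 h))
    · exact hwz (mul_left_cancel h)
  -- the first step
  set e := n₁ * c.z * n₁⁻¹ with he
  have heH : e ∈ H₁ := h₁.image_mem
  have heT : e ∈ c.T := h₁.le_T heH
  have heS := c.T_le heT
  have hee : e * e = 1 := h₁.image_sq
  have heU : e ∉ c.U := h₁.image_notin_U d hnf
  have hei : ¬ d.Inn e := d.invol_not_inn heT hee heU
  have hel : ∀ x ∈ H₁, x * x = 1 := by
    intro x hx
    rcases (d.moving_mem h₁ hnf).1 hx with g | g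
    · exact c.U_sq x g
    · rw [show x = x * e * e by rw [mul_assoc, hee, mul_one]]
      exact sq_mul_of_comm (c.U_sq _ g) hee (c.T_comm heT g).symm
  -- the subgroup
  let M : Subgroup G :=
    { carrier := {s | s ∈ d.X ∨ s * e ∈ d.X}
      one_mem' := Or.inl (one_mem _)
      mul_mem' := by
        rintro a b (ha | ha) (hb | hb)
        · exact Or.inl (mul_mem ha hb)
        · right; rw [mul_assoc]; exact mul_mem ha hb
        · right
          rw [show a * b * e = a * e * (e⁻¹ * b * e) by group]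
          exact mul_mem ha (by simpa using d.X_normal _ (inv_mem heS) b hb)
        · left
          rw [show a * b = a * e * (e * (b * e) * e) by
            rw [show a * e * (e * (b * e) * e) = a * (e * e) * b * (e * e) by group, hee]; group]
          refine mul_mem ha ?_
          have := d.X_normal e heS _ hb
          rwa [eq_inv_of_sq hee] at this
      inv_mem' := by
        rintro a (ha | ha)
        · exact Or.inl (inv_mem ha)
        · right
          have := d.X_normal e⁻¹ (inv_mem heS) _ (inv_mem ha)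
          rw [inv_inv, eq_inv_of_sq hee] at this
          rw [show a⁻¹ * e = e * (a * e)⁻¹ * e by rw [mul_inv_rev, eq_inv_of_sq hee, ← mul_assoc e, hee, one_mul]]
          exact this }
  have hMm : ∀ s, s ∈ M ↔ s ∈ d.X ∨ s * e ∈ d.X := fun s => Iff.rfl
  have hMS : M ≤ (c.S : Subgroup G) := by
    rintro s (h | h)
    · exact d.X_le h
    · have := Subgroup.mul_mem _ (d.X_le h) heS
      rwa [mul_assoc, hee, mul_one] at this
  have hXM : d.X ≤ M := fun x hx => Or.inl hx
  have hinn : ∀ {s}, s ∈ d.X → d.Inn s := fun hs => d.inn_X hs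
  have hMinn : ∀ s ∈ (c.S : Subgroup G), d.Inn s → (s ∈ M ↔ s ∈ d.X) := by
    intro s hs hi
    refine ⟨fun h => h.resolve_right fun g => hei ?_, fun h => Or.inl h⟩
    exact ((d.inn_mul hs heS).1 (hinn g)).1 hi
  have hMout : ∀ s ∈ (c.S : Subgroup G), ¬ d.Inn s → (s ∈ M ↔ s * e ∈ d.X) := by
    intro s hs hi
    exact ⟨fun h => h.resolve_left fun g => hi (hinn g), fun h => Or.inr h⟩
  have hM2 : M.relIndex (c.S : Subgroup G) = 2 := by
    rw [relIndex, index_eq_two_iff]
    refine ⟨⟨d.l, d.l_memS⟩, fun b => ?_⟩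
    show (b : G) * d.l ∈ M ∧ ¬ (b : G) ∈ M ∨ (b : G) ∈ M ∧ ¬ (b : G) * d.l ∈ M
    have hbl : d.Inn ((b : G) * d.l) ↔ d.Inn (b : G) := by
      rw [d.inn_mul b.2 d.l_memS]; exact iff_true_right (d.inn_L d.l_memL)
    have key : ∀ a ∈ (c.S : Subgroup G), d.Inn a → (a * d.l ∈ d.X ∧ ¬ a ∈ d.X ∨ a ∈ d.X ∧ ¬ a * d.l ∈ d.X) := by
      intro a ha hi
      by_cases h : a ∈ d.X
      · refine Or.inr ⟨h, fun g => d.l_notin_X ?_⟩
        have := mul_mem (inv_mem h) g
        rwa [inv_mul_cancel_left] at this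
      · refine Or.inl ⟨?_, h⟩
        obtain ⟨x, hx, m, hm, rfl⟩ := d.decomp ha hi
        rw [mul_assoc]
        refine mul_mem hx ?_
        rcases d.L_eq hm with g | g | g | g
        · exact absurd (by rw [g, mul_one]; exact hx) h
        · exact absurd (by rw [g]; exact mul_mem hx d.z_memX) h
        · rw [g, d.ll]; exact d.z_memX
        · rw [g, mul_assoc, ← zc d.l_memS, ← mul_assoc, d.ll, c.zz]; exact one_mem _
    by_cases hi : d.Inn (b : G)
    · rw [hMinn _ b.2 hi, hMinn _ (mul_mem b.2 d.l_memS) (hbl.2 hi)]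
      exact key _ b.2 hi
    · rw [hMout _ b.2 hi, hMout _ (mul_mem b.2 d.l_memS) (fun g => hi (hbl.1 g))]
      have hk := key ((b : G) * e) (mul_mem b.2 heS) ((d.inn_mul b.2 heS).2 (iff_of_false hi hei))
      have hel' : e * d.l = d.l * c.z * e := mul_inv_eq_iff_eq_mul.1 (d.invol_T heT hee heU).2
      have e1 : (b : G) * d.l * e = (b : G) * e * d.l * c.z := by
        rw [mul_assoc _ e d.l, hel', mul_assoc d.l c.z e, ← zc heS, ← mul_assoc d.l,
          show (b : G) * (d.l * e * c.z) * c.z = (b : G) * d.l * e * (c.z * c.z) by group, c.zz, mul_one]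
      have hz : ∀ a : G, a * c.z ∈ d.X ↔ a ∈ d.X := fun a =>
        ⟨fun h => by have := mul_mem h d.z_memX; rwa [zz_cancel] at this, fun h => mul_mem h d.z_memX⟩
      rw [e1, hz]
      exact hk
  -- `{1, z, e, ez}` is invariant under the normaliser
  have hle : d.l * e * d.l⁻¹ = e * c.z := by
    have h1 := (d.invol_T heT hee heU).2
    rw [eq_inv_of_sq hee] at h1
    calc d.l * e * d.l⁻¹ = e * (e * d.l * e) * d.l⁻¹ := by
          rw [show e * (e * d.l * e) = e * e * d.l * e by group, hee, one_mul]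
      _ = e * c.z := by rw [h1, mul_assoc e, zc d.l_memS, mul_inv_cancel_right]
  let W : Subgroup G := zpowers c.z ⊔ zpowers e
  have hzW : c.z ∈ W := mem_sup_left (mem_zpowers _)
  have heW : e ∈ W := mem_sup_right (mem_zpowers _)
  have hWM : W ≤ M := sup_le (zpowers_le.2 (hXM d.z_memX)) (zpowers_le.2 (Or.inr (by rw [hee]; exact one_mem _)))
  have hWinv : ∀ m ∈ normalizer (H₁ : Set G), ∀ w ∈ W, m * w * m⁻¹ ∈ W := by
    intro m hm
    have horb : ∀ k ∈ normalizer (H₁ : Set G), k * c.z * k⁻¹ ∈ W := by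
      intro k hk
      rcases d.orbit h₁ hnf hel hk with g | g | g <;> rw [g]
      exacts [hzW, heW, mul_mem heW hzW]
    have hmW : W ≤ W.comap (MulAut.conj m).toMonoidHom := by
      refine sup_le (zpowers_le.2 ?_) (zpowers_le.2 ?_)
      · exact horb m hm
      · show m * e * m⁻¹ ∈ W
        have := horb _ (mul_mem hm h₁.norm)
        rwa [show m * n₁ * c.z * (m * n₁)⁻¹ = m * e * m⁻¹ by rw [he]; group] at this
    exact fun w hw => hmW hw
  have hWU : ∀ w ∈ W, w ∈ c.U → w = 1 ∨ w = c.z := by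
    let W' : Subgroup G :=
      { carrier := {w | w = 1 ∨ w = c.z ∨ w = e ∨ w = e * c.z}
        one_mem' := Or.inl rfl
        mul_mem' := by
          have hze : c.z * e = e * c.z := (zc heS).symm
          rintro x y (rfl | rfl | rfl | rfl) (rfl | rfl | rfl | rfl) <;>
            simp only [Set.mem_ofPred_eq, one_mul, mul_one, c.zz, hee, zz_cancel, ← mul_assoc, hze, true_or, or_true]
          all_goals simp [mul_assoc, c.zz, hze, hee]
          all_goals simp [← mul_assoc, hee, c.zz]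
        inv_mem' := by
          rintro x (rfl | rfl | rfl | rfl)
          · exact Or.inl inv_one
          · exact Or.inr (Or.inl (eq_inv_of_sq c.zz))
          · exact Or.inr (Or.inr (Or.inl (eq_inv_of_sq hee)))
          · exact Or.inr (Or.inr (Or.inr (eq_inv_of_sq (sq_mul_of_comm hee c.zz (zc heS))))) }
    have hW' : W ≤ W' := sup_le (zpowers_le.2 (Or.inr (Or.inl rfl))) (zpowers_le.2 (Or.inr (Or.inr (Or.inl rfl))))
    intro w hw hwU
    rcases hW' hw with g | g | g | g
    · exact Or.inl g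
    · exact Or.inr g
    · exact absurd (g ▸ hwU) heU
    · refine absurd ?_ heU
      have := mul_mem (g ▸ hwU) c.z_mem
      rwa [zz_cancel] at this
  have hUW : ∀ v ∈ c.U, v ∈ W ∨ v * c.u ∈ W := by
    intro v hv
    rcases c.mem_U.1 hv with g | g | g | g <;> rw [g]
    · exact Or.inl (one_mem _)
    · exact Or.inl hzW
    · exact Or.inr (by rw [c.uu]; exact one_mem _)
    · exact Or.inr (by rw [mul_assoc, ← zc c.uS, ← mul_assoc, c.uu, one_mul]; exact hzW)
  -- moves of a step with the same subgroup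
  have hmove : ∀ H n, c.Moving H n → n * c.z * n⁻¹ * e ∈ c.U → ∀ x ∈ H, n * x * n⁻¹ * x⁻¹ ∈ M := by
    intro H n h hne x hx
    have hHH : ∀ y, y ∈ H ↔ y ∈ H₁ := by
      intro y
      rw [d.moving_mem h hnf, d.moving_mem h₁ hnf, ← he]
      have hkey : ∀ a b : G, a ∈ c.T → a * a = 1 → a * b ∈ c.U → y * a ∈ c.U → y * b ∈ c.U := fun a b _ ha hab hya => by
        rw [show y * b = y * a * (a * b) by rw [show y * a * (a * b) = y * (a * a) * b by group, ha, mul_one]]
        exact mul_mem hya hab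
      have hne' : e * (n * c.z * n⁻¹) ∈ c.U := by
        have := inv_mem hne
        rwa [mul_inv_rev, eq_inv_of_sq hee, eq_inv_of_sq h.image_sq] at this
      refine or_congr Iff.rfl ⟨hkey _ _ (h.le_T h.image_mem) h.image_sq hne, hkey _ _ heT hee hne'⟩
    have hH : H = H₁ := ext hHH
    subst hH
    have hn := h.norm
    have hxH : x ∈ H := hx
    set y := n * x * n⁻¹ with hy
    have hyH : y ∈ H := (mem_normalizer_iff.1 hn x).1 hx
    -- cosets of `W` in the subgroup
    have hcos : ∀ a ∈ H, a ∈ W ∨ a * c.u ∈ W := by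
      intro a ha
      rcases (d.moving_mem h₁ hnf).1 ha with g | g
      · exact hUW a g
      · rw [← he] at g
        have ea : a = a * e * e := by rw [mul_assoc, hee, mul_one]
        rcases hUW _ g with k | k
        · exact Or.inl (ea ▸ mul_mem k heW)
        · right
          rw [ea, mul_assoc (a * e), c.T_comm heT c.u_mem, ← mul_assoc]
          exact mul_mem k heW
    refine hWM ?_
    by_cases hxW : x ∈ W
    · exact mul_mem (hWinv n hn x hxW) (inv_mem hxW)
    · have hyW : y ∉ W := fun g => hxW (by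
        have := hWinv n⁻¹ (inv_mem hn) y g
        rwa [hy, inv_inv, show n⁻¹ * (n * x * n⁻¹) * n = x by group] at this)
      have := mul_mem ((hcos y hyH).resolve_left hyW) (inv_mem ((hcos x hxH).resolve_left hxW))
      rwa [mul_inv_rev, ← mul_assoc, mul_inv_cancel_right] at this
  -- all steps
  refine d.false_of_moving hMS hM2 hXM fun H n h x hx => ?_
  set e' := n * c.z * n⁻¹ with he'
  have he'T : e' ∈ c.T := h.le_T h.image_mem
  have he'U : e' ∉ c.U := h.image_notin_U d hnf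
  have he'2 : e' * e' = 1 := h.image_sq
  have hi' : d.Inn (e' * e) :=
    (d.inn_mul (c.T_le he'T) heS).2 (iff_of_false (d.invol_not_inn he'T he'2 he'U) hei)
  rcases d.T_inner (mul_mem he'T heT) hi' with hc | hc
  · exact hmove H n h hc x hx
  -- conjugate by `j`
  have hj := h.conj d.jS
  set v := e' * e * d.l⁻¹ with hv
  have ee' : e' = v * d.l * e := by rw [hv, inv_mul_cancel_right, mul_assoc, hee, mul_one]
  have hjS := d.jS
  -- the image of `e`
  obtain ⟨v', hv', hje⟩ : ∃ v' ∈ c.U, d.j * e * d.j⁻¹ = v' * d.l * e := by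
    have hjl : d.q⁻¹ * e = c.u * d.l * e := by
      rw [d.u_eq, show d.q * d.l * d.l = d.q * (d.l * d.l) by group, d.ll]
      have : d.q⁻¹ = d.q * c.z := inv_eq_of_mul_eq_one_right (by rw [← mul_assoc, d.qq, c.zz])
      rw [this]
    rcases d.outer_conj heS hei with g | g
    · refine ⟨c.u, c.u_mem, ?_⟩
      rw [← hjl]
      have g' := congrArg (fun a => a⁻¹) g
      simp only [mul_inv_rev, inv_inv] at g'
      rw [show d.j * e * d.j⁻¹ = d.j * (e * (d.j⁻¹ * e⁻¹)) * e by group, g']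
      group
    · refine ⟨c.u * c.z, mul_mem c.u_mem c.z_mem, ?_⟩
      have g' := congrArg (fun a => a⁻¹) g
      simp only [mul_inv_rev, inv_inv] at g'
      have e1 : c.u * c.z * d.l * e = c.u * d.l * e * c.z := by
        rw [mul_assoc c.u c.z, ← zc d.l_memS, mul_assoc _ e c.z, zc heS]; group
      rw [e1, ← hjl, show d.j * e * d.j⁻¹ = d.j * (e * (d.j⁻¹ * e⁻¹)) * e by group, g', eq_inv_of_sq c.zz,
        show d.j * (c.z * (d.j⁻¹ * d.q⁻¹)) * e = d.j * c.z * d.j⁻¹ * (d.q⁻¹ * e) by group, zc hjS,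
        mul_inv_cancel_right, ← zc (mul_mem (inv_mem d.qS) heS)]
  have himg : d.j * n * d.j⁻¹ * c.z * (d.j * n * d.j⁻¹)⁻¹ = d.j * e' * d.j⁻¹ := by
    have hz : d.j⁻¹ * c.z * d.j = c.z := by rw [mul_assoc, ← zc hjS, inv_mul_cancel_left]
    rw [he']
    conv_rhs => rw [← hz]
    group
  have hmem : d.j * n * d.j⁻¹ * c.z * (d.j * n * d.j⁻¹)⁻¹ * e ∈ c.U := by
    have h1 : d.j * e' * d.j⁻¹ * e = d.j * v * d.j⁻¹ * (d.l * v') * (d.l * (e * e)) := by
      rw [ee', show d.j * (v * d.l * e) * d.j⁻¹ * e =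
          d.j * v * d.j⁻¹ * (d.j * d.l * d.j⁻¹) * (d.j * e * d.j⁻¹) * e by group,
        d.X_fix d.l_memL d.j_mem, hje]
      group
    rw [himg, h1, hee, mul_one, c.T_comm d.lT hv', show d.j * v * d.j⁻¹ * (v' * d.l) * d.l =
      d.j * v * d.j⁻¹ * v' * (d.l * d.l) by group, d.ll]
    exact mul_mem (mul_mem (c.U_normal _ hjS v hc) hv') c.z_mem
  have hres := hmove _ _ hj hmem (d.j * x * d.j⁻¹) ⟨x, hx, rfl⟩
  have e2 : n * x * n⁻¹ * x⁻¹ = d.j⁻¹ *
      (d.j * n * d.j⁻¹ * (d.j * x * d.j⁻¹) * (d.j * n * d.j⁻¹)⁻¹ * (d.j * x * d.j⁻¹)⁻¹) * d.j := by group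
  rw [e2]
  exact mul_mem (mul_mem (inv_mem (hXM d.j_mem)) hres) (hXM d.j_mem)

end Quat

/-- No normal subgroup of quaternion shape contains the 2-residual part. -/
theorem Ctx2.quat_false (c : Ctx2 G) (X : Subgroup G) (hXS : X ≤ (c.S : Subgroup G))
    (hXn : ∀ s ∈ (c.S : Subgroup G), ∀ x ∈ X, s * x * s⁻¹ ∈ X) (hX8 : Nat.card ↥X = 8) (hXz : c.z ∈ X)
    (hX2 : ∀ x ∈ X, x * x = 1 → x = 1 ∨ x = c.z) (hX4 : ∀ x ∈ X, x ^ 4 = 1) (hR : c.R ≤ X) : False := by
  obtain ⟨d⟩ := c.exists_quat X hXS hXn hX8 hXz hX2 hX4 hR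
  exact d.quat_shape_false

end CfsgLib.NoEightConstrained
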